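import Cfsg.Agent.Lib.S83.Ag
import Cfsg.Agent.Lib.Loc3.Gen4

/-! Overgroups of `W(B₃)`: data (generated by tools/s83/ag.py). -/

set_option autoImplicit false
set_option maxRecDepth 1000000
set_option maxHeartbeats 0

namespace Cfsg.Lib.S83

open Cfsg.Lib.Calc Cfsg.Lib.Grp Cfsg.Lib.T2 Cfsg.Lib.T3 Cfsg.Lib.Loc3

/-- the alternatives for the letter 40 -/
def altF (k₁ k₂ k₃ : W) : Fm :=
  .or (.and (.eq (.mul k₁ (.l 10)) (.mul (.l 10) k₁)) (.not (.mem 2 k₁))) (.or (.eq k₁ (.l 16))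
    (.or (.and (.mem 5 (.l 40)) (.or (.mem 17 (.l 40)) (.eq k₁ (.l 15))))
      (.and (.mem 8 (.l 40)) (.and (.eq k₁ (.l 12)) (.or (.mem 6 (.l 40)) (.and (.eq k₂ (.l 13))
        (.or (.mem 7 (.l 40)) (.eq k₃ (.l 14)))))))))

/-- certificate for a representative -/
noncomputable def okC (c : W × W × W × W) : Bool :=
  band ([c.2.1, c.2.2.1, c.2.2.2].all (W.overW (.l 40 :: ag.ws 2))) (ag.eval (.lt 40 c.1 (altF c.2.1 c.2.2.1 c.2.2.2)))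

/-- the classification of the elements `y` with `y x = v y`, `y c = r y`, `y h = g y` -/
def clF (v g c : W) (m n : ℕ) (l : List (W × W × W × W)) : Fm :=
  .all 2 40 [] (.imp (.one (.pow (.l 40) m)) (.imp (.one (.pow (.mul c (.l 40)) n))
    (.all 3 41 [(.l 10, v), (c, .l 7), (.l 40, g)] (orL (l.map fun c => .mem 2 (.mul c.1 (.l 41)))))))

/-- representatives -/
def cl0 : List (W × W × W × W) := [(.l 11, .l 0, .l 0, .l 0)]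

theorem cl0_ok : allP cl0 okC = true := by decide +kernel

/-- representatives -/
def cl1 : List (W × W × W × W) := [(.l 12, .l 40, .l 0, .l 0),
  (.mul (.mul (.mul (.mul (.mul (.mul (.mul (.mul (.mul (.l 15) (.l 15)) (.l 13)) (.l 5)) (.l 14)) (.l 13)) (.l 15)) (.l 16)) (.l 16)) (.l 16), .mul (.mul (.mul (.mul (.mul (.l 5) (.l 6)) (.inv (.l 40))) (.l 5)) (.inv (.l 40))) (.l 7), .l 0, .l 0),
  (.mul (.mul (.mul (.mul (.mul (.mul (.l 12) (.l 8)) (.l 7)) (.l 15)) (.l 15)) (.l 7)) (.l 8), .mul (.mul (.mul (.inv (.l 40)) (.l 6)) (.l 40)) (.l 40), .l 0, .l 0),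
  (.mul (.mul (.mul (.mul (.mul (.l 15) (.l 15)) (.l 12)) (.l 14)) (.l 13)) (.l 13), .mul (.mul (.mul (.mul (.l 40) (.l 40)) (.l 6)) (.inv (.l 40))) (.inv (.l 40)), .l 0, .l 0),
  (.mul (.mul (.mul (.mul (.mul (.l 12) (.l 8)) (.l 7)) (.l 15)) (.l 7)) (.l 8), .mul (.mul (.mul (.l 40) (.l 40)) (.l 6)) (.l 40), .l 0, .l 0),
  (.mul (.mul (.mul (.mul (.l 15) (.l 15)) (.l 12)) (.l 8)) (.l 14), .mul (.mul (.mul (.mul (.l 40) (.l 40)) (.l 6)) (.inv (.l 40))) (.inv (.l 40)), .l 0, .l 0)]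

theorem cl1_ok : allP cl1 okC = true := by decide +kernel

/-- representatives -/
def cl2 : List (W × W × W × W) := [(.mul (.mul (.mul (.mul (.mul (.mul (.mul (.l 15) (.l 15)) (.l 13)) (.l 4)) (.l 13)) (.l 15)) (.l 12)) (.l 8), .mul (.mul (.mul (.mul (.l 40) (.l 5)) (.inv (.l 40))) (.l 7)) (.l 40), .l 0, .l 0),
  (.mul (.mul (.mul (.mul (.l 16) (.l 16)) (.l 16)) (.l 5)) (.l 12), .mul (.mul (.inv (.l 40)) (.l 5)) (.l 40), .l 0, .l 0),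
  (.mul (.mul (.mul (.mul (.mul (.mul (.l 16) (.l 16)) (.l 16)) (.l 5)) (.l 15)) (.l 7)) (.l 15), .mul (.mul (.mul (.mul (.l 40) (.l 40)) (.l 5)) (.inv (.l 40))) (.inv (.l 40)), .l 0, .l 0),
  (.mul (.mul (.mul (.mul (.mul (.mul (.mul (.mul (.l 16) (.l 16)) (.l 16)) (.l 5)) (.l 15)) (.l 15)) (.l 7)) (.l 15)) (.l 15), .mul (.mul (.mul (.inv (.l 40)) (.l 7)) (.l 40)) (.l 40), .l 0, .l 0),
  (.mul (.mul (.mul (.mul (.mul (.mul (.mul (.l 11) (.l 15)) (.l 15)) (.l 7)) (.l 12)) (.l 16)) (.l 16)) (.l 16), .mul (.mul (.inv (.l 40)) (.l 8)) (.l 40), .l 0, .l 0),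
  (.mul (.mul (.mul (.mul (.mul (.mul (.mul (.l 15) (.l 15)) (.l 13)) (.l 5)) (.l 13)) (.l 16)) (.l 16)) (.l 16), .mul (.mul (.inv (.l 40)) (.l 8)) (.l 40), .l 0, .l 0),
  (.mul (.mul (.mul (.l 16) (.l 16)) (.l 16)) (.l 5), .mul (.l 5) (.inv (.l 40)), .l 0, .l 0),
  (.mul (.l 12) (.l 14), .mul (.mul (.l 4) (.l 40)) (.l 40), .mul (.mul (.mul (.mul (.mul (.l 4) (.l 6)) (.inv (.l 40))) (.l 5)) (.l 8)) (.inv (.l 40)), .mul (.l 4) (.inv (.l 40))),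
  (.mul (.mul (.mul (.mul (.mul (.mul (.mul (.mul (.mul (.l 16) (.l 16)) (.l 16)) (.l 5)) (.l 12)) (.l 15)) (.l 15)) (.l 7)) (.l 15)) (.l 15), .mul (.mul (.inv (.l 40)) (.l 5)) (.l 40), .l 0, .l 0),
  (.mul (.mul (.mul (.mul (.mul (.mul (.mul (.l 16) (.l 16)) (.l 16)) (.l 5)) (.l 12)) (.l 15)) (.l 7)) (.l 15), .mul (.mul (.inv (.l 40)) (.l 5)) (.l 40), .l 0, .l 0),
  (.mul (.mul (.mul (.mul (.mul (.mul (.l 12) (.l 14)) (.l 15)) (.l 15)) (.l 7)) (.l 15)) (.l 15), .mul (.mul (.mul (.mul (.l 40) (.l 5)) (.l 40)) (.l 5)) (.l 40), .l 0, .l 0),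
  (.mul (.mul (.mul (.mul (.l 12) (.l 14)) (.l 15)) (.l 7)) (.l 15), .mul (.mul (.mul (.mul (.l 40) (.l 4)) (.l 40)) (.l 5)) (.l 40), .l 0, .l 0)]

theorem cl2_ok : allP cl2 okC = true := by decide +kernel

/-- representatives -/
def cl3 : List (W × W × W × W) := []

theorem cl3_ok : allP cl3 okC = true := by decide +kernel

/-- representatives -/
def cl4 : List (W × W × W × W) := [(.mul (.mul (.mul (.mul (.l 15) (.l 15)) (.l 7)) (.l 8)) (.l 12), .mul (.mul (.mul (.inv (.l 40)) (.l 7)) (.l 40)) (.l 40), .l 0, .l 0),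
  (.mul (.mul (.mul (.mul (.mul (.l 14) (.l 8)) (.l 12)) (.l 15)) (.l 7)) (.l 8), .mul (.mul (.mul (.l 40) (.l 6)) (.l 40)) (.l 40), .l 0, .l 0),
  (.mul (.mul (.mul (.l 15) (.l 15)) (.l 7)) (.l 8), .mul (.mul (.l 7) (.l 8)) (.inv (.l 40)), .l 0, .l 0),
  (.mul (.mul (.mul (.mul (.mul (.mul (.l 14) (.l 8)) (.l 12)) (.l 15)) (.l 7)) (.l 8)) (.l 12), .mul (.mul (.l 40) (.l 40)) (.l 40), .l 0, .l 0),
  (.mul (.mul (.mul (.mul (.mul (.mul (.mul (.l 15) (.l 15)) (.l 13)) (.l 4)) (.l 13)) (.l 15)) (.l 7)) (.l 8), .mul (.mul (.mul (.mul (.l 40) (.l 6)) (.l 40)) (.l 40)) (.l 40), .l 0, .l 0),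
  (.mul (.mul (.l 14) (.l 5)) (.l 13), .mul (.mul (.inv (.l 40)) (.l 5)) (.l 40), .mul (.mul (.mul (.mul (.mul (.l 5) (.l 8)) (.l 40)) (.l 40)) (.l 4)) (.l 6), .mul (.mul (.mul (.mul (.mul (.l 8) (.l 40)) (.l 40)) (.l 4)) (.l 6)) (.inv (.l 40)))]

theorem cl4_ok : allP cl4 okC = true := by decide +kernel

/-- representatives -/
def cl5 : List (W × W × W × W) := [(.mul (.mul (.mul (.mul (.mul (.mul (.mul (.l 11) (.l 12)) (.l 16)) (.l 16)) (.l 16)) (.l 15)) (.l 7)) (.l 15), .mul (.mul (.mul (.mul (.inv (.l 40)) (.l 7)) (.l 8)) (.l 7)) (.l 40), .l 0, .l 0),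
  (.mul (.mul (.mul (.mul (.mul (.l 15) (.l 16)) (.l 16)) (.l 16)) (.l 5)) (.l 12), .mul (.mul (.inv (.l 40)) (.l 5)) (.l 40), .l 0, .l 0),
  (.mul (.mul (.mul (.mul (.l 15) (.l 15)) (.l 7)) (.l 15)) (.l 15), .mul (.mul (.mul (.l 4) (.inv (.l 40))) (.l 5)) (.l 40), .l 0, .l 0),
  (.mul (.mul (.mul (.mul (.mul (.mul (.mul (.mul (.mul (.mul (.mul (.mul (.l 15) (.l 15)) (.l 13)) (.l 13)) (.l 4)) (.l 13)) (.l 13)) (.l 15)) (.l 14)) (.l 13)) (.l 16)) (.l 16)) (.l 16), .mul (.mul (.mul (.mul (.l 40) (.l 40)) (.l 4)) (.inv (.l 40))) (.inv (.l 40)), .l 0, .l 0),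
  (.mul (.mul (.mul (.mul (.mul (.mul (.mul (.mul (.mul (.l 12) (.l 8)) (.l 7)) (.l 15)) (.l 15)) (.l 7)) (.l 12)) (.l 16)) (.l 16)) (.l 16), .mul (.mul (.inv (.l 40)) (.l 7)) (.l 40), .l 0, .l 0),
  (.mul (.mul (.mul (.mul (.l 12) (.l 8)) (.l 16)) (.l 16)) (.l 16), .mul (.mul (.mul (.inv (.l 40)) (.l 8)) (.l 40)) (.l 40), .l 0, .l 0),
  (.mul (.mul (.mul (.mul (.mul (.mul (.mul (.mul (.mul (.l 15) (.l 15)) (.l 7)) (.l 15)) (.l 15)) (.l 16)) (.l 6)) (.l 16)) (.l 16)) (.l 16), .mul (.mul (.mul (.mul (.l 40) (.l 4)) (.l 5)) (.l 40)) (.l 40), .l 0, .l 0),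
  (.mul (.mul (.mul (.mul (.mul (.l 15) (.l 15)) (.l 7)) (.l 15)) (.l 12)) (.l 14), .mul (.mul (.mul (.mul (.l 40) (.l 4)) (.l 40)) (.l 5)) (.l 40), .l 0, .l 0),
  (.mul (.mul (.mul (.mul (.mul (.mul (.l 11) (.l 15)) (.l 15)) (.l 16)) (.l 16)) (.l 16)) (.l 14), .mul (.mul (.inv (.l 40)) (.l 5)) (.l 40), .l 0, .l 0),
  (.mul (.mul (.mul (.mul (.mul (.mul (.mul (.mul (.l 15) (.l 15)) (.l 13)) (.l 15)) (.l 16)) (.l 16)) (.l 16)) (.l 12)) (.l 15), .mul (.mul (.inv (.l 40)) (.l 5)) (.l 40), .l 0, .l 0),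
  (.mul (.mul (.mul (.mul (.mul (.mul (.mul (.mul (.l 11) (.l 15)) (.l 15)) (.l 16)) (.l 16)) (.l 16)) (.l 12)) (.l 14)) (.l 15), .mul (.mul (.mul (.l 40) (.l 40)) (.l 6)) (.l 40), .l 0, .l 0),
  (.mul (.mul (.mul (.mul (.mul (.mul (.mul (.mul (.mul (.mul (.mul (.mul (.l 11) (.l 15)) (.l 13)) (.l 13)) (.l 15)) (.l 15)) (.l 13)) (.l 13)) (.l 16)) (.l 16)) (.l 16)) (.l 12)) (.l 15), .mul (.mul (.mul (.mul (.mul (.mul (.mul (.l 4) (.l 6)) (.l 7)) (.inv (.l 40))) (.l 7)) (.l 8)) (.inv (.l 40))) (.l 5), .l 0, .l 0)]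

theorem cl5_ok : allP cl5 okC = true := by decide +kernel

/-- representatives -/
def cl6 : List (W × W × W × W) := [(.mul (.mul (.mul (.mul (.mul (.mul (.mul (.mul (.mul (.mul (.l 13) (.l 13)) (.l 16)) (.l 16)) (.l 16)) (.l 8)) (.l 16)) (.l 16)) (.l 16)) (.l 13)) (.l 13), .mul (.mul (.mul (.l 4) (.inv (.l 40))) (.l 6)) (.l 40), .l 0, .l 0),
  (.mul (.mul (.mul (.mul (.mul (.mul (.mul (.mul (.l 11) (.l 13)) (.l 16)) (.l 16)) (.l 16)) (.l 16)) (.l 16)) (.l 16)) (.l 13), .mul (.mul (.mul (.mul (.l 40) (.l 4)) (.l 5)) (.l 6)) (.l 40), .l 0, .l 0),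
  (.mul (.mul (.mul (.mul (.mul (.mul (.mul (.mul (.mul (.mul (.l 15) (.l 15)) (.l 13)) (.l 15)) (.l 15)) (.l 13)) (.l 13)) (.l 16)) (.l 16)) (.l 16)) (.l 14), .mul (.l 40) (.l 40), .l 0, .l 0),
  (.mul (.mul (.mul (.mul (.mul (.mul (.mul (.l 13) (.l 16)) (.l 16)) (.l 16)) (.l 8)) (.l 16)) (.l 16)) (.l 16), .mul (.mul (.mul (.mul (.l 40) (.l 4)) (.l 5)) (.l 6)) (.l 40), .l 0, .l 0),
  (.mul (.mul (.mul (.mul (.mul (.mul (.mul (.mul (.mul (.mul (.mul (.mul (.l 16) (.l 16)) (.l 16)) (.l 16)) (.l 16)) (.l 16)) (.l 13)) (.l 16)) (.l 16)) (.l 16)) (.l 16)) (.l 16)) (.l 16), .mul (.mul (.mul (.mul (.l 40) (.l 4)) (.l 5)) (.l 6)) (.l 40), .l 0, .l 0),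
  (.mul (.mul (.mul (.mul (.mul (.mul (.l 11) (.l 16)) (.l 16)) (.l 16)) (.l 16)) (.l 16)) (.l 16), .mul (.mul (.mul (.mul (.mul (.mul (.mul (.l 4) (.l 5)) (.l 8)) (.inv (.l 40))) (.l 4)) (.l 40)) (.l 5)) (.inv (.l 40)), .l 0, .l 0),
  (.mul (.mul (.mul (.mul (.mul (.mul (.mul (.l 16) (.l 16)) (.l 16)) (.l 8)) (.l 16)) (.l 16)) (.l 16)) (.l 13), .mul (.mul (.mul (.mul (.l 40) (.l 4)) (.l 5)) (.l 6)) (.l 40), .l 0, .l 0),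
  (.mul (.mul (.mul (.mul (.mul (.mul (.mul (.mul (.mul (.mul (.l 11) (.l 13)) (.l 13)) (.l 16)) (.l 16)) (.l 16)) (.l 16)) (.l 16)) (.l 16)) (.l 13)) (.l 13), .mul (.mul (.mul (.mul (.l 40) (.l 4)) (.l 5)) (.l 6)) (.l 40), .l 0, .l 0),
  (.mul (.l 13) (.l 13), .mul (.mul (.mul (.mul (.l 7) (.inv (.l 40))) (.l 4)) (.l 5)) (.l 40), .inv (.l 40), .l 0)]

theorem cl6_ok : allP cl6 okC = true := by decide +kernel

/-- representatives -/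
def cl7 : List (W × W × W × W) := [(.mul (.mul (.mul (.l 15) (.l 7)) (.l 8)) (.l 12), .mul (.mul (.mul (.inv (.l 40)) (.l 7)) (.l 40)) (.l 40), .l 0, .l 0),
  (.mul (.mul (.mul (.mul (.mul (.mul (.mul (.l 11) (.l 13)) (.l 5)) (.l 14)) (.l 15)) (.l 15)) (.l 7)) (.l 8), .mul (.mul (.l 40) (.l 40)) (.l 40), .l 0, .l 0),
  (.mul (.mul (.mul (.l 11) (.l 15)) (.l 7)) (.l 8), .mul (.mul (.mul (.l 40) (.l 6)) (.inv (.l 40))) (.l 4), .l 0, .l 0),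
  (.mul (.mul (.mul (.mul (.mul (.mul (.mul (.l 13) (.l 4)) (.l 13)) (.l 15)) (.l 15)) (.l 12)) (.l 8)) (.l 14), .mul (.mul (.mul (.mul (.l 40) (.l 40)) (.l 6)) (.l 40)) (.l 40), .l 0, .l 0),
  (.mul (.mul (.mul (.mul (.mul (.mul (.mul (.l 15) (.l 13)) (.l 4)) (.l 13)) (.l 15)) (.l 15)) (.l 7)) (.l 8), .mul (.mul (.mul (.mul (.l 40) (.l 40)) (.l 6)) (.l 40)) (.l 40), .l 0, .l 0),
  (.mul (.mul (.mul (.l 14) (.l 5)) (.l 13)) (.l 13), .mul (.mul (.mul (.mul (.l 6) (.inv (.l 40))) (.l 4)) (.l 40)) (.l 6), .mul (.mul (.mul (.mul (.mul (.l 7) (.l 40)) (.l 4)) (.l 40)) (.l 4)) (.l 8), .mul (.mul (.mul (.mul (.mul (.l 7) (.l 8)) (.inv (.l 40))) (.l 4)) (.l 40)) (.l 40))]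

theorem cl7_ok : allP cl7 okC = true := by decide +kernel

/-- representatives -/
def cl8 : List (W × W × W × W) := [(.mul (.mul (.mul (.mul (.mul (.mul (.mul (.mul (.l 13) (.l 5)) (.l 14)) (.l 15)) (.l 15)) (.l 16)) (.l 16)) (.l 16)) (.l 14), .mul (.mul (.inv (.l 40)) (.l 7)) (.l 40), .l 0, .l 0),
  (.mul (.mul (.mul (.mul (.mul (.mul (.l 15) (.l 15)) (.l 16)) (.l 16)) (.l 16)) (.l 5)) (.l 12), .mul (.mul (.inv (.l 40)) (.l 5)) (.l 40), .l 0, .l 0),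
  (.mul (.mul (.mul (.l 11) (.l 15)) (.l 7)) (.l 15), .mul (.mul (.mul (.l 40) (.l 5)) (.l 40)) (.l 4), .l 0, .l 0),
  (.mul (.mul (.mul (.mul (.mul (.mul (.mul (.mul (.mul (.mul (.mul (.mul (.l 15) (.l 15)) (.l 12)) (.l 8)) (.l 16)) (.l 13)) (.l 13)) (.l 16)) (.l 16)) (.l 16)) (.l 12)) (.l 15)) (.l 15), .mul (.mul (.mul (.mul (.mul (.mul (.l 40) (.l 4)) (.l 40)) (.l 4)) (.l 40)) (.l 5)) (.l 40), .l 0, .l 0),
  (.mul (.mul (.mul (.mul (.mul (.mul (.mul (.mul (.l 14) (.l 8)) (.l 12)) (.l 15)) (.l 16)) (.l 16)) (.l 16)) (.l 5)) (.l 12), .mul (.mul (.inv (.l 40)) (.l 7)) (.l 40), .l 0, .l 0),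
  (.mul (.mul (.mul (.l 12) (.l 16)) (.l 16)) (.l 16), .mul (.mul (.mul (.mul (.l 40) (.l 40)) (.l 4)) (.inv (.l 40))) (.inv (.l 40)), .l 0, .l 0),
  (.mul (.mul (.mul (.mul (.mul (.mul (.mul (.mul (.mul (.l 15) (.l 15)) (.l 16)) (.l 16)) (.l 16)) (.l 14)) (.l 15)) (.l 15)) (.l 14)) (.l 5), .mul (.mul (.mul (.mul (.l 40) (.l 8)) (.l 40)) (.l 8)) (.l 40), .l 0, .l 0),
  (.mul (.mul (.mul (.mul (.mul (.l 15) (.l 7)) (.l 15)) (.l 15)) (.l 12)) (.l 14), .mul (.mul (.mul (.mul (.l 40) (.l 4)) (.l 40)) (.l 4)) (.l 40), .l 0, .l 0),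
  (.mul (.mul (.mul (.mul (.l 15) (.l 16)) (.l 16)) (.l 16)) (.l 14), .mul (.mul (.inv (.l 40)) (.l 5)) (.l 40), .l 0, .l 0),
  (.mul (.mul (.mul (.mul (.mul (.mul (.mul (.mul (.mul (.mul (.mul (.l 15) (.l 15)) (.l 16)) (.l 16)) (.l 16)) (.l 4)) (.l 12)) (.l 15)) (.l 15)) (.l 7)) (.l 15)) (.l 15), .mul (.mul (.inv (.l 40)) (.l 5)) (.l 40), .l 0, .l 0),
  (.mul (.mul (.mul (.mul (.mul (.mul (.mul (.mul (.l 15) (.l 15)) (.l 16)) (.l 16)) (.l 16)) (.l 14)) (.l 5)) (.l 15)) (.l 15), .mul (.mul (.mul (.mul (.l 40) (.l 40)) (.l 4)) (.inv (.l 40))) (.inv (.l 40)), .l 0, .l 0),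
  (.mul (.mul (.mul (.mul (.mul (.mul (.mul (.mul (.mul (.mul (.mul (.mul (.mul (.mul (.l 15) (.l 15)) (.l 7)) (.l 12)) (.l 16)) (.l 15)) (.l 15)) (.l 16)) (.l 16)) (.l 16)) (.l 16)) (.l 16)) (.l 16)) (.l 13)) (.l 13), .mul (.mul (.mul (.mul (.mul (.l 8) (.l 40)) (.l 6)) (.l 8)) (.l 7)) (.inv (.l 40)), .l 0, .l 0)]

theorem cl8_ok : allP cl8 okC = true := by decide +kernel

/-- representatives -/
def cl9 : List (W × W × W × W) := [(.mul (.mul (.mul (.mul (.mul (.mul (.mul (.mul (.l 13) (.l 13)) (.l 16)) (.l 16)) (.l 16)) (.l 16)) (.l 16)) (.l 16)) (.l 13), .mul (.mul (.mul (.l 40) (.l 6)) (.l 40)) (.l 4), .l 0, .l 0),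
  (.mul (.mul (.mul (.mul (.mul (.mul (.mul (.mul (.mul (.mul (.mul (.mul (.mul (.mul (.l 11) (.l 16)) (.l 16)) (.l 16)) (.l 16)) (.l 16)) (.l 16)) (.l 13)) (.l 13)) (.l 16)) (.l 16)) (.l 16)) (.l 16)) (.l 16)) (.l 16), .mul (.l 40) (.l 40), .l 0, .l 0),
  (.mul (.mul (.mul (.mul (.mul (.mul (.mul (.mul (.l 13) (.l 13)) (.l 16)) (.l 16)) (.l 16)) (.l 8)) (.l 16)) (.l 13)) (.l 13), .mul (.l 40) (.l 40), .l 0, .l 0),
  (.mul (.mul (.mul (.mul (.mul (.mul (.l 13) (.l 16)) (.l 16)) (.l 16)) (.l 16)) (.l 16)) (.l 16), .mul (.l 40) (.l 40), .l 0, .l 0),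
  (.mul (.mul (.mul (.mul (.l 16) (.l 16)) (.l 16)) (.l 8)) (.l 16), .mul (.mul (.mul (.mul (.mul (.mul (.mul (.l 4) (.l 5)) (.l 7)) (.l 40)) (.l 4)) (.l 40)) (.l 6)) (.l 40), .l 0, .l 0),
  (.mul (.mul (.mul (.mul (.mul (.mul (.mul (.mul (.mul (.mul (.mul (.mul (.mul (.l 16) (.l 16)) (.l 16)) (.l 16)) (.l 16)) (.l 16)) (.l 13)) (.l 16)) (.l 16)) (.l 16)) (.l 8)) (.l 16)) (.l 16)) (.l 16), .mul (.l 40) (.l 40), .l 0, .l 0),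
  (.mul (.mul (.mul (.mul (.mul (.mul (.mul (.l 16) (.l 16)) (.l 16)) (.l 16)) (.l 16)) (.l 16)) (.l 13)) (.l 13), .mul (.l 40) (.l 40), .l 0, .l 0),
  (.mul (.l 11) (.l 13), .mul (.mul (.mul (.mul (.mul (.mul (.l 6) (.l 7)) (.l 40)) (.l 4)) (.l 5)) (.l 40)) (.l 6), .mul (.mul (.mul (.mul (.mul (.mul (.mul (.l 40) (.l 4)) (.l 5)) (.l 6)) (.l 40)) (.l 4)) (.l 5)) (.l 6), .l 0),
  (.mul (.mul (.mul (.mul (.mul (.mul (.mul (.mul (.mul (.mul (.l 15) (.l 15)) (.l 13)) (.l 13)) (.l 16)) (.l 16)) (.l 16)) (.l 16)) (.l 16)) (.l 16)) (.l 12), .mul (.mul (.mul (.l 40) (.l 5)) (.l 6)) (.l 40), .l 0, .l 0)]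

theorem cl9_ok : allP cl9 okC = true := by decide +kernel

end Cfsg.Lib.S83
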