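import Cfsg.Agent.Lib.S83.M
import Cfsg.Agent.Lib.Loc3.Gen5

/-! Facts in the model of `Sp₆(2)` (generated by tools/s83/sy.py). -/

set_option autoImplicit false
set_option maxRecDepth 1000000
set_option maxHeartbeats 0

namespace Cfsg.Lib.S83

open Cfsg.Lib.Calc Cfsg.Lib.Grp Cfsg.Lib.T2 Cfsg.Lib.T3 Cfsg.Lib.Loc3 Cfsg.Lib.T2.L

/-- a formula -/
def sx_w1_f : Fm := .all 8 40 [] (.imp (.one (.mul (.mul (.l 40) (.mul (.mul (.l 1) (.l 40)) (.inv (.l 1)))) (.mul (.mul (.inv (.l 1)) (.l 40)) (.l 1)))) (.or (.one (.l 40)) (.or (.eq (.l 40) (.mul (.mul (.mul (.mul (.mul (.l 4) (.l 6)) (.l 8)) (.l 9)) (.l 8)) (.l 6))) (.or (.eq (.l 40) (.mul (.mul (.l 1) (.mul (.mul (.mul (.mul (.mul (.l 4) (.l 6)) (.l 8)) (.l 9)) (.l 8))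 (.l 6))) (.inv (.l 1)))) (.eq (.l 40) (.mul (.mul (.inv (.l 1)) (.mul (.mul (.mul (.mul (.mul (.l 4) (.l 6)) (.l 8)) (.l 9)) (.l 8)) (.l 6))) (.l 1)))))))

theorem sx_w1_ev : sx.eval sx_w1_f = true := by decide +kernel

theorem sx_w1 {G : Type*} [Group G] {γ : ℕ → G} {k : ℕ} {N : List W} (g : Gf sx γ k N)
    (e : tyB sx k N sx_w1_f = true := by decide +kernel) :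
    ∀ y ∈ genW γ (sx.ws 8), y * (γ 1 * y * (γ 1)⁻¹) * ((γ 1)⁻¹ * y * γ 1) = 1 → y = 1 ∨ y = γ 4 * γ 6 * γ 8 * γ 9 * γ 8 * γ 6 ∨ y = γ 1 * (γ 4 * γ 6 * γ 8 * γ 9 * γ 8 * γ 6) * (γ 1)⁻¹ ∨ y = (γ 1)⁻¹ * (γ 4 * γ 6 * γ 8 * γ 9 * γ 8 * γ 6) * γ 1 :=
  g.transfer e sx_w1_ev

/-- conjugating words -/
def ic0 : List (List ℕ) := [[], [8], [7, 8], [2, 9, 8, 3], [8, 2, 9, 8, 3], [7, 8, 2, 9, 8, 3], [1, 9, 8, 9, 7, 8, 3, 3]]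

/-- conjugating words -/
def ic1 : List (List ℕ) := [[], [8], [7, 8], [1, 9, 1], [2, 9, 2], [8, 1, 9, 1], [1, 9, 8, 1], [8, 2, 9, 2], [7, 8, 2, 9, 2], [8, 2, 1, 9, 2], [7, 8, 1, 9, 1], [8, 1, 9, 8, 1], [7, 8, 2, 1, 9, 2], [8, 2, 1, 1, 9, 2], [7, 8, 1, 9, 8, 1], [1, 1, 9, 2, 9, 1], [1, 9, 8, 9, 1, 1], [9, 8, 2, 1, 9, 2], [1, 9, 2, 9, 1, 1], [1, 9, 8, 2, 1, 9, 2], [9, 7, 8, 2, 1, 9, 2], [9, 8, 2, 1, 1, 9, 2], [1, 9, 8, 9, 8, 1, 1], [7, 8, 2, 1, 1, 9, 2], [2, 9, 8, 2, 1, 9, 2], [1, 9, 7, 8, 2, 1, 9, 2], [2, 9, 8, 2, 1, 1, 9, 2], [9, 7, 8, 2, 1, 1, 9, 2], [2, 9, 7, 8, 9, 8, 1, 1], [2, 2, 9, 8, 2, 1, 9, 2], [2, 9, 8, 1, 9, 8, 2, 1], [8, 1, 9, 8, 2, 1, 9, 2], [1, 9, 2, 9, 8, 9, 8, 1], [7, 8, 1, 9, 8, 2, 1, 9, 2], [1,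 9, 7, 8, 1, 9, 8, 2, 1], [4, 1, 9, 2, 9, 8, 9, 8, 1], [2, 9, 1, 9, 7, 8, 9, 8, 1], [8, 9, 8, 1, 9, 2, 9, 1, 1], [2, 2, 1, 9, 8, 9, 8, 2, 1], [8, 9, 8, 1, 1, 9, 2, 9, 1], [8, 1, 9, 7, 8, 1, 9, 8, 2, 1]]

/-- conjugating words -/
def ic2 : List (List ℕ) := [[], [8], [8, 1], [7, 8], [9, 8, 1], [7, 8, 1], [8, 1, 1], [2, 9, 8, 1], [1, 9, 8, 1], [9, 7, 8, 1], [9, 8, 1, 1], [7, 8, 1, 1], [1, 9, 2, 1], [2, 2, 9, 8, 1], [2, 9, 2, 1, 1], [1, 9, 7, 8, 1], [2, 9, 8, 1, 1], [9, 7, 8, 1, 1], [8, 1, 9, 8, 1], [7, 8, 1, 9, 8, 1], [2, 9, 8, 9, 8, 2, 1], [1, 1, 9, 8, 9, 8, 2, 1], [2, 9, 8, 1, 9, 8, 2, 1], [2, 9, 8, 9, 8, 2, 1, 1], [1, 9, 8, 9, 8, 2, 1, 1], [2, 9, 7, 8, 9, 8, 2, 1, 1], [1, 9, 8, 9, 8, 2, 2, 1, 1]]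

/-- conjugating words -/
def ic3 : List (List ℕ) := [[], [1, 9, 1], [2, 9, 2], [8, 1, 9, 1], [8, 2, 9, 2], [7, 8, 2, 9, 2], [8, 2, 1, 9, 2], [7, 8, 1, 9, 1], [8, 2, 1, 1, 9, 2], [7, 8, 2, 1, 9, 2], [1, 9, 8, 9, 1, 1], [9, 8, 2, 1, 9, 2], [1, 1, 9, 2, 9, 1], [1, 9, 2, 9, 1, 1], [1, 9, 8, 2, 1, 9, 2], [9, 8, 2, 1, 1, 9, 2], [9, 7, 8, 2, 1, 9, 2], [7, 8, 2, 1, 1, 9, 2], [2, 9, 8, 1, 9, 3, 1], [2, 9, 8, 2, 9, 3, 2], [1, 9, 2, 9, 8, 9, 1], [2, 9, 7, 8, 9, 1, 1], [1, 9, 7, 8, 2, 9, 3, 2], [2, 9, 7, 8, 2, 1, 9, 2], [8, 2, 9, 7, 8, 9, 1, 1], [9, 7, 8, 2, 1, 1, 9, 2], [8, 1, 9, 8, 2, 1, 9, 2], [2, 2, 1, 9, 8, 9, 3, 1], [2, 9, 8, 2, 1, 9, 3, 2], [1, 9, 7, 8, 1, 9, 3, 1], [8, 2, 9, 8, 1, 9, 3, 1], [4, 1, 9, 2, 9, 8, 9, 1],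 [2, 9, 1, 9, 7, 8, 9, 1], [1, 9, 7, 8, 2, 1, 9, 3, 2], [2, 9, 8, 2, 1, 1, 9, 3, 2], [8, 1, 9, 7, 8, 2, 9, 3, 2], [7, 8, 2, 9, 8, 1, 9, 3, 1], [8, 9, 8, 1, 9, 2, 9, 1, 1], [5, 2, 9, 8, 2, 1, 9, 3, 2], [8, 2, 9, 7, 8, 2, 1, 9, 2], [7, 8, 1, 9, 8, 2, 1, 9, 2], [8, 9, 8, 1, 1, 9, 2, 9, 1], [8, 1, 9, 7, 8, 1, 9, 3, 1], [7, 8, 2, 9, 7, 8, 2, 1, 9, 2], [7, 8, 1, 9, 7, 8, 1, 9, 3, 1], [8, 1, 9, 7, 8, 2, 1, 9, 3, 1], [7, 8, 1, 9, 7, 8, 2, 1, 9, 3, 1], [8, 1, 9, 7, 8, 2, 2, 1, 9, 3, 1], [9, 8, 1, 9, 7, 8, 2, 1, 9, 3, 1], [1, 9, 8, 9, 7, 8, 2, 1, 9, 3, 3, 1], [7, 8, 1, 9, 7, 8, 2, 2, 1, 9, 3, 1], [2, 1, 9, 8, 9, 2, 1, 9, 8, 9, 3, 2], [9, 7, 8, 1, 9, 7, 8, 2, 1, 9, 3, 1], [1, 1, 9, 8, 9, 7, 8, 2, 1, 9, 3, 1], [1, 9, 8, 2, 1,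 9, 8, 2, 1, 9, 3, 1], [2, 9, 8, 2, 1, 9, 7, 8, 2, 9, 1, 1], [9, 8, 1, 9, 7, 8, 2, 2, 1, 9, 3, 1], [2, 9, 8, 1, 9, 7, 8, 2, 1, 9, 3, 1], [1, 9, 8, 2, 1, 9, 7, 8, 2, 9, 1, 1], [1, 9, 8, 9, 7, 8, 2, 2, 1, 9, 3, 3, 1], [9, 7, 8, 1, 9, 7, 8, 2, 2, 1, 9, 3, 1], [1, 9, 7, 8, 1, 9, 7, 8, 2, 1, 9, 3, 1], [1, 9, 8, 2, 1, 9, 8, 2, 2, 1, 9, 3, 1], [4, 1, 9, 8, 2, 1, 9, 7, 8, 2, 9, 1, 1], [1, 9, 8, 2, 1, 9, 7, 8, 2, 2, 9, 1, 1], [8, 1, 9, 7, 8, 1, 9, 7, 8, 2, 1, 9, 3, 1], [8, 9, 2, 1, 9, 8, 9, 2, 1, 9, 8, 9, 2, 1], [8, 9, 2, 1, 9, 8, 9, 2, 2, 1, 9, 8, 9, 2, 1]]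

theorem sx_inv_ev : sx.eval (.all 7 40 [] (.imp (.one (.mul (.l 40) (.l 40))) (.or (.one (.l 40)) (.or (clsF ic0 (.l 6) (.l 40))
    (.or (clsF ic1 (.mul (.l 4) (.l 5)) (.l 40)) (.or (clsF ic2 (.mul (.mul (.l 4) (.l 5)) (.l 9)) (.l 40)) (clsF ic3 (.mul (.mul (.l 4) (.l 5)) (.l 6)) (.l 40)))))))) = true := by
  decide +kernel

theorem sx_inv {G : Type*} [Group G] {γ : ℕ → G} (g : Gf sx γ 0 []) : ∀ y ∈ genW γ (sx.ws 7), y * y = 1 → y = 1 ∨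
    MJ (genW γ (sx.ws 0)) (γ 6) y ∨ MJ (genW γ (sx.ws 0)) (γ 4 * γ 5) y ∨ MJ (genW γ (sx.ws 0)) (γ 4 * γ 5 * γ 9) y ∨
      MJ (genW γ (sx.ws 0)) (γ 4 * γ 5 * γ 6) y := fun y m e =>
  (g.transfer (by decide +kernel) sx_inv_ev y m e).imp_right
    (.imp (mj_of · g.zero _) (.imp (mj_of · g.zero _) (.imp (mj_of · g.zero _) (mj_of · g.zero _))))

end Cfsg.Lib.S83
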