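import Cfsg.Agent.Lib.S83.Sy
import Cfsg.Agent.Lib.Loc3.Gen5

/-! Facts in the model of `Sp₈(2)` (generated by tools/s83/sy.py). -/

set_option autoImplicit false
set_option maxRecDepth 1000000
set_option maxHeartbeats 0

namespace Cfsg.Lib.S83

open Cfsg.Lib.Calc Cfsg.Lib.Grp Cfsg.Lib.T2 Cfsg.Lib.T3 Cfsg.Lib.Loc3 Cfsg.Lib.T2.L

/-- conjugating words -/
def trY : List (List ℕ) := [[], [1], [7], [7, 1], [8, 7], [1, 1], [9, 1], [8, 7, 1], [1, 9, 1], [9, 1, 1], [7, 1, 1], [2, 9, 1], [8, 9, 1], [9, 7, 1], [9, 7, 1, 1], [8, 1, 9, 1], [2, 9, 1, 1], [8, 9, 1, 1], [8, 7, 1, 1], [9, 8, 9, 1], [8, 2, 9, 1], [8, 9, 7, 1], [1, 9, 7, 1], [7, 8, 9, 1], [2, 2, 9, 1], [8, 9, 7, 1, 1], [8, 2, 9, 1, 1], [7, 8, 1, 9, 1], [7, 8, 9, 1, 1], [9, 7,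 8, 9, 1], [9, 8, 2, 9, 1], [2, 9, 8, 9, 1], [8, 1, 9, 7, 1], [7, 8, 2, 9, 1], [7, 8, 9, 7, 1], [8, 2, 2, 9, 1], [9, 8, 9, 1, 1], [7, 8, 9, 7, 1, 1], [7, 8, 2, 9, 1, 1], [1, 9, 8, 9, 1, 1], [8, 9, 7, 8, 9, 1], [9, 7, 8, 2, 9, 1], [2, 9, 8, 2, 9, 1], [7, 8, 1, 9, 7, 1], [7, 8, 2, 2, 9, 1], [9, 8, 2, 9, 1, 1], [2, 9, 8, 9, 1, 1], [9, 7, 8, 9, 1, 1], [2, 2, 9, 8, 9, 1], [9, 8, 2, 2, 9, 1], [9, 8, 1, 9, 7, 1], [2, 9, 8, 2, 9, 1, 1], [9, 7, 8, 2, 9, 1, 1], [8, 9, 7, 8, 9, 1, 1], [9, 7, 8, 2, 2, 9, 1], [2, 2, 9, 8, 2, 9, 1], [2, 9, 8, 2, 2, 9, 1], [2, 2, 9, 8, 9, 1, 1], [2, 9, 8, 1, 9, 7, 1], [9, 7, 8, 1, 9, 7, 1], [2, 2, 9, 8, 2, 9, 1, 1], [1, 9, 7, 8, 1, 9, 7, 1], [2, 2, 9, 8, 1, 9, 7, 1]]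

/-- conjugating words -/
def trT : List (List ℕ) := [[], [1], [7], [7, 1], [8, 7], [1, 1], [9, 1], [8, 7, 1], [7, 1, 1], [1, 9, 1], [9, 1, 1], [2, 9, 1], [8, 9, 1], [9, 7, 1], [8, 7, 1, 1], [9, 7, 1, 1], [8, 1, 9, 1], [2, 9, 1, 1], [8, 9, 1, 1], [8, 2, 9, 1], [8, 9, 7, 1], [1, 9, 7, 1], [7, 8, 9, 1], [9, 8, 9, 1], [2, 2, 9, 1], [8, 9, 7, 1, 1], [8, 2, 9, 1, 1], [7, 8, 1, 9, 1], [7, 8, 9, 1, 1], [8, 1, 9, 7, 1], [7, 8, 2, 9, 1], [7, 8, 9, 7, 1], [9, 7, 8, 9, 1], [9, 8, 2, 9, 1], [2, 9, 8, 9, 1], [9, 8, 9, 1, 1], [8, 2, 2, 9, 1], [7, 8, 9, 7, 1, 1], [7, 8, 2, 9, 1, 1], [7, 8, 1, 9, 7, 1], [1, 9, 8, 9, 1, 1], [8, 9, 7, 8, 9, 1], [9, 7, 8, 2, 9, 1], [2, 9, 8, 2, 9, 1], [9, 8, 2, 9, 1, 1], [2, 9, 8, 9, 1, 1], [9, 7, 8, 9, 1, 1],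 [2, 2, 9, 8, 9, 1], [9, 8, 2, 2, 9, 1], [7, 8, 2, 2, 9, 1], [9, 8, 1, 9, 7, 1], [2, 9, 8, 2, 9, 1, 1], [9, 7, 8, 2, 9, 1, 1], [8, 9, 7, 8, 9, 1, 1], [9, 7, 8, 2, 2, 9, 1], [2, 2, 9, 8, 2, 9, 1], [2, 9, 8, 2, 2, 9, 1], [2, 2, 9, 8, 9, 1, 1], [2, 9, 8, 1, 9, 7, 1], [9, 7, 8, 1, 9, 7, 1], [2, 2, 9, 8, 2, 9, 1, 1], [1, 9, 7, 8, 1, 9, 7, 1], [2, 2, 9, 8, 1, 9, 7, 1]]

/-- conjugating words -/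
def CL : List (W × List (List ℕ) × List (List ℕ) × List (W × List (List ℕ))) := [(.l 6, [[12], [8, 7, 1, 13, 7, 8, 3, 3, 12]],
    [[8, 12, 8, 2, 9, 2], [8, 12, 8, 2, 1, 9, 2], [7, 8, 12, 8, 2, 9, 2], [7, 8, 12, 8, 2, 1, 9, 2], [8, 12, 8, 2, 1, 1, 9, 2], [8, 12, 13, 8, 2, 1, 9, 2], [12, 13, 8, 12, 2, 1, 9, 2], [9, 8, 12, 8, 2, 1, 9, 2], [8, 12, 9, 8, 2, 1, 9, 2], [7, 8, 12, 8, 2, 1, 1, 9, 2], [1, 9, 8, 12, 8, 2, 1, 9, 2], [7, 8, 12, 13, 8, 2, 1, 9, 2], [8, 12, 1, 9, 8, 2, 1, 9, 2], [8, 3, 12, 13, 8, 2, 1, 9, 2], [12, 7, 13, 8, 12, 2, 1, 9, 2], [2, 9, 8, 12, 8, 2, 1, 9, 2], [9, 7, 8, 12, 8, 2, 1, 9, 2], [7, 8, 12, 9, 8, 2, 1, 9, 2], [9, 8, 12, 9, 8, 2, 1, 9, 2], [8, 12, 13, 9, 8, 2, 1, 9, 2], [7, 8, 12, 1, 9, 8, 2, 1, 9, 2], [1,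 9, 7, 8, 12, 8, 2, 1, 9, 2], [8, 12, 1, 13, 9, 8, 2, 1, 9, 2], [9, 7, 8, 12, 9, 8, 2, 1, 9, 2], [2, 9, 8, 12, 9, 8, 2, 1, 9, 2], [8, 3, 12, 13, 9, 8, 2, 1, 9, 2], [7, 8, 12, 13, 9, 8, 2, 1, 9, 2], [2, 2, 9, 8, 12, 8, 2, 1, 9, 2], [3, 12, 8, 7, 13, 12, 1, 9, 3, 3, 1], [2, 2, 9, 8, 12, 9, 8, 2, 1, 9, 2], [8, 3, 3, 12, 13, 9, 8, 2, 1, 9, 2], [3, 12, 8, 7, 13, 12, 2, 1, 9, 3, 3, 1], [3, 12, 8, 7, 13, 8, 12, 1, 9, 3, 3, 1], [3, 12, 8, 7, 13, 8, 12, 2, 1, 9, 3, 3, 1], [3, 12, 8, 7, 13, 12, 2, 2, 1, 9, 3, 3, 1], [3, 12, 9, 8, 7, 13, 12, 2, 1, 9, 3, 3, 1], [8, 2, 9, 1, 13, 12, 2, 9, 7, 8, 2, 9, 3, 2], [12, 13, 8, 12, 7, 8, 2, 9, 8, 2, 1, 9, 3, 1], [3, 3, 8, 7, 13, 12, 1, 9, 7, 8, 2, 1, 9, 2], [3, 3, 12, 1, 9, 8, 7, 13, 12, 2, 1, 9, 3,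 1], [3, 3, 12, 9, 8, 7, 13, 12, 2, 2, 1, 9, 3, 1], [2, 2, 3, 12, 8, 7, 13, 8, 12, 1, 9, 3, 3, 1], [3, 3, 12, 2, 9, 8, 7, 13, 12, 2, 1, 9, 3, 1], [3, 3, 12, 9, 8, 7, 13, 8, 12, 2, 1, 9, 3, 1], [7, 8, 2, 9, 1, 13, 12, 2, 9, 7, 8, 2, 9, 3, 2], [7, 12, 13, 8, 12, 7, 8, 2, 9, 8, 2, 1, 9, 3, 1], [3, 3, 9, 8, 7, 13, 12, 1, 9, 7, 8, 2, 1, 9, 2], [3, 3, 8, 7, 13, 8, 12, 1, 9, 7, 8, 2, 1, 9, 2], [3, 3, 12, 9, 8, 7, 13, 8, 12, 2, 2, 1, 9, 3, 1], [3, 3, 12, 2, 9, 8, 7, 13, 12, 2, 2, 1, 9, 3, 1], [3, 3, 8, 7, 13, 12, 7, 13, 2, 9, 8, 2, 1, 9, 2], [3, 3, 12, 1, 9, 8, 7, 13, 8, 12, 2, 1, 9, 3, 1], [2, 2, 3, 12, 9, 8, 7, 13, 12, 2, 1, 9, 3, 3, 1], [3, 3, 8, 7, 13, 12, 7, 1, 13, 2, 9, 8, 2, 1, 9, 2], [3, 3, 7, 9, 8, 7, 13, 12, 1, 9, 7, 8, 2, 1,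 9, 2], [12, 8, 13, 3, 12, 13, 7, 8, 2, 9, 8, 2, 1, 9, 3, 1], [3, 3, 8, 7, 13, 3, 12, 7, 13, 2, 9, 8, 2, 1, 9, 2], [3, 3, 7, 8, 7, 13, 12, 7, 13, 2, 9, 8, 2, 1, 9, 2], [2, 2, 3, 3, 9, 8, 7, 13, 12, 1, 9, 7, 8, 2, 1, 9, 2], [2, 2, 3, 3, 8, 7, 13, 12, 7, 13, 2, 9, 8, 2, 1, 9, 2]],
    [(.mul (.l 7) (.l 4), [[8, 12, 7, 8], [8, 12, 7, 8, 1, 9, 1]])]),
  (.mul (.l 4) (.l 5), [],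
    [[12], [1, 13, 12, 1, 1], [7, 1, 13, 12, 1, 1], [1, 13, 7, 1, 13, 12, 2, 2, 1, 1]],
    [(.mul (.l 7) (.l 4), [[], [1, 13, 1, 1], [7, 1, 13, 1, 1], [1, 13, 7, 1, 13, 2, 2, 1, 1]]),
    (.mul (.mul (.mul (.l 7) (.l 4)) (.l 12)) (.l 6), [[12, 8, 7, 1, 13, 1, 1], [3, 12, 8, 7, 1, 13, 1, 1], [12, 8, 2, 9, 1, 13, 2, 9, 1], [3, 3, 12, 8, 7, 1, 13, 1, 1], [8, 12, 7, 13, 8, 2, 1, 9, 2], [8, 12, 9, 7, 8, 2, 1, 9, 2], [3, 12, 8, 2, 9, 1, 13, 2, 9, 1], [12, 7, 8, 2, 9, 1, 13, 2, 9, 1], [8, 12, 2, 9, 7, 8, 2, 1, 9, 2], [12, 13, 8, 12, 7, 8, 2, 1, 9, 1], [8, 12, 7, 13, 8, 2, 1, 1, 9, 2], [8, 12, 7, 13, 9, 8, 2, 1, 9, 2], [3, 12, 7, 8, 2, 9, 1, 13, 2, 9, 1], [8, 12, 7, 1, 13, 8, 2, 1, 1, 9, 2], [8, 12, 7, 1, 13, 9, 8, 2, 1, 9, 2], [8,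 12, 7, 13, 9, 8, 2, 1, 1, 9, 2], [3, 3, 12, 8, 2, 9, 1, 13, 2, 9, 1], [3, 3, 12, 7, 8, 2, 9, 1, 13, 2, 9, 1], [8, 1, 13, 12, 9, 2, 1, 9, 8, 2, 9, 3, 2], [12, 13, 8, 12, 1, 9, 7, 8, 2, 1, 9, 3, 1], [8, 12, 9, 8, 1, 9, 7, 8, 2, 1, 9, 3, 1], [1, 13, 8, 12, 7, 13, 8, 2, 1, 9, 3, 3, 2], [1, 1, 13, 8, 12, 7, 13, 8, 2, 1, 1, 9, 3, 2], [1, 1, 13, 8, 12, 7, 1, 13, 8, 2, 1, 1, 9, 3, 2]])]),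
  (.mul (.mul (.l 4) (.l 5)) (.l 9), [],
    [[12, 8, 2, 9, 8, 1, 9, 3, 1], [12, 8, 2, 9, 7, 8, 9, 1, 1], [12, 7, 8, 2, 9, 8, 1, 9, 3, 1], [1, 1, 13, 12, 7, 8, 2, 9, 8, 2, 1, 9, 3, 1]],
    [(.mul (.l 7) (.l 13), [[8, 12, 8], [7, 8, 12, 8], [8, 12, 1, 9, 1], [2, 9, 8, 3, 12, 8]]),
    (.mul (.mul (.mul (.l 7) (.l 4)) (.l 12)) (.l 6), [[1, 1, 12, 13, 2, 1, 9, 8, 7, 1, 13, 3, 12, 13, 9, 1], [1, 1, 13, 12, 13, 2, 1, 9, 8, 7, 1, 13, 3, 12, 13, 9, 1], [1, 1, 12, 8, 13, 2, 1, 9, 8, 2, 9, 1, 13, 2, 9, 3, 1], [1, 1, 12, 3, 3, 13, 12, 1, 13, 7, 13, 12, 1, 13, 3, 1, 1], [12, 3, 3, 12, 13, 3, 12, 1, 13, 9, 2, 1, 9, 8, 9, 3, 2, 2], [1, 1, 3, 3, 12, 13, 2, 1, 9, 8, 7, 1, 13, 3, 12, 13, 9, 1], [1, 1, 3, 3, 13, 12, 13, 2, 1, 9, 8, 7, 1, 13,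 3, 12, 13, 9, 1], [2, 2, 12, 3, 3, 12, 13, 3, 12, 7, 13, 2, 1, 9, 8, 7, 13, 3, 1], [1, 1, 3, 3, 12, 8, 13, 2, 1, 9, 8, 2, 9, 1, 13, 2, 9, 3, 1], [12, 3, 3, 13, 12, 13, 3, 12, 1, 13, 9, 2, 1, 9, 8, 9, 3, 2, 2], [1, 1, 3, 3, 12, 3, 3, 13, 12, 1, 13, 7, 13, 12, 1, 13, 3, 1, 1], [2, 2, 12, 3, 3, 13, 12, 13, 3, 12, 7, 13, 2, 1, 9, 8, 7, 13, 3, 1]]),
    (.mul (.mul (.l 8) (.l 7)) (.l 12), [[12, 2, 1, 9, 8, 7, 1, 13, 6, 2, 1, 1], [12, 2, 1, 9, 8, 1, 9, 7, 1, 13, 1, 1], [12, 2, 1, 9, 8, 9, 7, 1, 13, 3, 1, 1], [12, 2, 1, 9, 8, 7, 1, 13, 6, 4, 2, 1], [12, 2, 1, 9, 8, 1, 9, 7, 1, 13, 4, 1], [12, 2, 1, 9, 8, 9, 7, 1, 13, 4, 3, 1], [3, 12, 2, 1, 9, 8, 7, 1, 13, 6, 4, 2, 1], [3, 12, 2, 1, 9, 8, 1, 9, 7, 1, 13, 4, 1], [3, 12, 2, 1, 9, 8, 9,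 7, 1, 13, 4, 3, 1], [2, 9, 1, 13, 12, 9, 8, 7, 1, 13, 2, 1, 1], [2, 9, 1, 13, 12, 9, 8, 7, 1, 13, 4, 2, 1], [2, 9, 1, 13, 3, 12, 9, 8, 7, 1, 13, 4, 2, 1]])]),
  (.mul (.mul (.l 4) (.l 5)) (.l 6), [],
    [[], [1, 13, 1, 1], [7, 1, 13, 1, 1], [8, 7, 1, 13, 1, 1], [1, 13, 7, 1, 13, 2, 2, 1, 1], [12, 8, 2, 9, 1, 13, 2, 9, 1], [12, 7, 8, 2, 9, 1, 13, 2, 9, 1], [12, 8, 1, 9, 7, 8, 2, 9, 1, 13, 3, 2, 1, 1]],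
    [(.mul (.mul (.mul (.l 7) (.l 4)) (.l 12)) (.l 6), [[], [1, 13, 1, 1], [7, 1, 13, 1, 1], [8, 7, 1, 13, 1, 1], [1, 13, 7, 1, 13, 2, 2, 1, 1], [1, 13, 8, 7, 1, 13, 2, 2, 1, 1], [7, 1, 13, 8, 7, 1, 13, 2, 2, 1, 1], [1, 1, 13, 7, 1, 13, 8, 7, 1, 13, 3, 2, 2, 1, 1]])])]

/-- the classes of the involutions in a coset -/
def clG (c : W × List (List ℕ) × List (List ℕ) × List (W × List (List ℕ))) : Fm :=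
  .and (.not (.eq (.mul (.mul (.l 40) c.1) (.mul (.l 40) c.1)) (.l 11))) (.imp (.one (.mul (.mul (.l 40) c.1) (.mul (.l 40) c.1)))
    (.or (clsF c.2.1 (.l 11) (.mul (.l 40) c.1)) (.or (clsF c.2.2.1 (.mul (.mul (.l 4) (.l 5)) (.l 6)) (.mul (.l 40) c.1))
      (Loc3.orL (c.2.2.2.map fun p => clsF p.2 (.mul p.1 p.1) (.mul (.l 40) c.1))))))

/-- formulas -/
def fQ : List Fm := [.or (.eq (.mul (.l 6) (.l 40)) (.mul (.l 40) (.l 6))) (.eq (.mul (.l 6) (.l 40)) (.mul (.mul (.mul (.mul (.mul (.mul (.mul (.l 8) (.l 7)) (.l 13)) (.l 7)) (.l 8)) (.l 11)) (.l 40)) (.l 6))),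
  .or (.eq (.mul (.l 2) (.l 40)) (.mul (.l 40) (.l 2))) (.or (.eq (.mul (.l 2) (.l 40)) (.mul (.mul (.mul (.mul (.mul (.l 7) (.l 13)) (.l 7)) (.l 11)) (.l 40)) (.l 2))) (.or (.eq (.mul (.l 2) (.l 40)) (.mul (.mul (.mul (.mul (.l 2) (.mul (.mul (.mul (.l 7) (.l 13)) (.l 7)) (.l 11))) (.inv (.l 2))) (.l 40)) (.l 2))) (.eq (.mul (.l 2) (.l 40)) (.mul (.mul (.mul (.mul (.mul (.mul (.l 7) (.l 13)) (.l 7)) (.l 11)) (.mul (.mul (.l 2) (.mul (.mul (.mul (.l 7) (.l 13)) (.l 7)) (.l 11))) (.inv (.l 2)))) (.l 40)) (.l 2))))),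
  .imp (.eq (.mul (.l 40) (.mul (.l 1) (.l 2))) (.mul (.mul (.l 1) (.l 2)) (.l 40))) (.mem 2 (.l 40)),
  .or (.one (.l 40)) (.or (.eq (.l 40) (.l 11)) (.or (clsF trY (.l 13) (.l 40)) (clsF trT (.mul (.l 13) (.l 11)) (.l 40))))]

theorem sy_Q_ev : sy.eval (.all 1 40 [] (andL fQ)) = true := by decide +kernel

theorem sy_C_ev : sy.eval (.all 1 40 [] (andL (CL.map clG))) = true := by decide +kernel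

variable {G : Type*} [Group G] {γ : ℕ → G} (g : Gf sy γ 0 [])
include g

theorem sy_Q : ∀ v ∈ genW γ (sy.ws 1), (andL fQ).holds (fun k => genW γ (sy.ws k)) (upd γ 40 v) :=
  g.transfer (by decide +kernel) sy_Q_ev

theorem sy_tv : ∀ v ∈ genW γ (sy.ws 1), γ 6 * v = v * γ 6 ∨ γ 6 * v = γ 8 * γ 7 * γ 13 * γ 7 * γ 8 * γ 11 * v * γ 6 :=
  fun v m => (sy_Q g v m).1

theorem sy_b : ∀ v ∈ genW γ (sy.ws 1), γ 2 * v = v * γ 2 ∨ γ 2 * v = γ 7 * γ 13 * γ 7 * γ 11 * v * γ 2 ∨ γ 2 * v = γ 2 * (γ 7 * γ 13 * γ 7 * γ 11) * (γ 2)⁻¹ * v * γ 2 ∨ γ 2 * v = γ 7 * γ 13 * γ 7 * γ 11 * (γ 2 * (γ 7 * γ 13 * γ 7 * γ 11) * (γ 2)⁻¹) * v * γ 2 :=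
  fun v m => (sy_Q g v m).2.1

theorem sy_ab : ∀ v ∈ genW γ (sy.ws 1), v * (γ 1 * γ 2) = γ 1 * γ 2 * v → v ∈ genW γ (sy.ws 2) :=
  fun v m => (sy_Q g v m).2.2.1

theorem sy_tr : ∀ v ∈ genW γ (sy.ws 1), v = 1 ∨ v = γ 11 ∨ MJ (genW γ [.l 1, .l 2, .l 3, .l 4, .l 5, .l 6, .l 7, .l 8, .l 9]) (γ 13) v ∨
    MJ (genW γ [.l 1, .l 2, .l 3, .l 4, .l 5, .l 6, .l 7, .l 8, .l 9]) (γ 13 * γ 11) v :=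
  fun v m => (sy_Q g v m).2.2.2.1.imp_right (.imp_right (.imp (mj_of · g.zero _) (mj_of · g.zero _)))

theorem sy_cl : ∀ v ∈ genW γ (sy.ws 1), ∀ l ∈ [γ 6, γ 4 * γ 5, γ 4 * γ 5 * γ 9, γ 4 * γ 5 * γ 6], v * l * (v * l) ≠ γ 11 ∧
    (v * l * (v * l) = 1 → MJ (genW γ (sy.ws 0)) (γ 11) (v * l) ∨ IsConj (γ 4 * γ 5 * γ 6) (v * l) ∨ ∃ y, IsConj (y * y) (v * l)) := by
  intro v m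
  have k : ∀ c ∈ CL, ∀ u, u = (W.mul (.l 40) c.1).ev (upd γ 40 v) → u * u ≠ γ 11 ∧
      (u * u = 1 → MJ (genW γ (sy.ws 0)) (γ 11) u ∨ IsConj (γ 4 * γ 5 * γ 6) u ∨ ∃ y, IsConj (y * y) u) := by
    rintro c o _ rfl
    obtain ⟨a, b⟩ := andL_iff.1 (g.transfer (by decide +kernel) sy_C_ev v m) _ (List.mem_map_of_mem o)
    refine ⟨a, fun e => (b e).imp (fun h => mj_of (s := .l 11) h g.zero _ (List.all_eq_true.1 (by decide +kernel : (CL.all fun c => c.2.1.all fun k =>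
      (Loc3.wd k).overW (sy.ws 0) && avoid 40 (Loc3.wd k)) = true) c o)) (.imp isc_of fun h => ?_)⟩
    obtain ⟨_, i, j⟩ := orL_iff.1 h
    obtain ⟨p, -, rfl⟩ := List.mem_map.1 i
    exact ⟨_, isc_of j⟩
  exact List.forall_mem_cons.2 ⟨k _ (.head _) _ rfl, List.forall_mem_cons.2 ⟨k _ (.tail _ (.head _)) _ rfl, List.forall_mem_cons.2
    ⟨k _ (.tail _ (.tail _ (.head _))) _ rfl, List.forall_mem_singleton.2 (k _ (.tail _ (.tail _ (.tail _ (.head _)))) _ rfl)⟩⟩⟩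

end Cfsg.Lib.S83
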