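import Cfsg.Agent.Lib.S83.Ag1
import Cfsg.Agent.Lib.T3.Hlp

/-! The model of `9³ : (3 × W(B₃))` on 27 points (generated by tools/s83/tm.py). -/

set_option autoImplicit false
set_option maxRecDepth 1000000
set_option maxHeartbeats 0

namespace Cfsg.Lib.S83

open Cfsg.Lib.Calc Cfsg.Lib.Grp Cfsg.Lib.T2 Cfsg.Lib.T3

def tm_L0 : List (ℕ × List ℕ) := [((nat_lit 0), [(nat_lit 0x6b38bdab49ca307b9ac5a928398a418820), (nat_lit 0x6b38bdab49ca307b9ac5a9220810731483), (nat_lit 0x6b38bdab49c907314831041183dcd62d49), (nat_lit 0x6b38bdab49ca307b9ac5a92041cc520c41), (nat_lit 0x6b38bdab49ca307b9ac5a92520c41020e6), (nat_lit 0x6b38bdab49ca307b9ac5a9273148310408), (nat_lit 0x6b38bdab49c907314831040b526307b9ac), (nat_lit 0x6b38bdab49ca307b9ac5a92310408398a4), (nat_lit 0x6b38bdab49ca307b9ac5a921020e629062), (nat_lit 0x460f7358b52507314831041ace2f6ad272), (nat_lit 0x6b38bdab49c907314831040e6b16a4c60f), (nat_lit 0x52d8d4eb7cc96d7c54c74120110c808ca7), (nat_lit 0x6b38bdab49c90731483104098c1ee6b16a),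 (nat_lit 0x6b38bdab49ca307b9ac5a9241882041cc5), (nat_lit 0x6b38bdab49c90731483104107b9ac5a931), (nat_lit 0x460f7358b5250731483104149cb59c5ed5), (nat_lit 0x6b38bdab49c907314831040c5a93183dcd), (nat_lit 0x6b38bdab49c907314831040a4c60f7358b), (nat_lit 0x460f7358b525073148310417b569396b38), (nat_lit 0x52d8d4eb7cc8443202329c095b5f1531d0), (nat_lit 0x460f7358b525073148310412d6717b5693), (nat_lit 0x6b38bdab49c907314831040d62d498c1ee), (nat_lit 0x460f7358b525073148310419c5ed5a4e5a), (nat_lit 0x460f7358b525073148310415a4e5ace2f6), (nat_lit 0x460f7358b52507314831041396b38bdab4), (nat_lit 0x2daf8a98e824443202329c12a5b1a9d6f9), (nat_lit 0x460f7358b525073148310416ad272d6717)]),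
  ((nat_lit 9), [(nat_lit 0x6b38bdab49ca307b9ac5a928398a418820), (nat_lit 0x6b38bdab49c93183dcd62d48398a418820), (nat_lit 0x460f7358b52759c5ed5a4e48398a418820), (nat_lit 0x6b38bdab49ca0f7358b52628398a418820), (nat_lit 0x6b38bdab49c9498c1ee6b168398a418820), (nat_lit 0x460f7358b5265ace2f6ad268398a418820), (nat_lit 0x52d8d4eb7cc92b6be2a63a0728c2831040), (nat_lit 0x5e78a66bab492e53d70645a440ce2304a0), (nat_lit 0x460f7358b52738bdab49cb48398a418820), (nat_lit 0x5e78a66bab494f5c1916a5c440ce2304a0), (nat_lit 0x6b38bdab49c96a4c60f73588398a418820), (nat_lit 0x460f7358b52672d6717b5688398a418820), (nat_lit 0x2daf8a98e82654b6353adf2728c2831040), (nat_lit 0x394f5c1916a6579e299aeac440ce2304a0), (nat_lit 0x52d8d4eb7cca2a63a095b5e728c2831040), (nat_lit 0x394f5c1916a678a66bab4ae440ce2304a0), (nat_lit 0x460f7358b5269396b38bdaa8398a418820), (nat_lit 0x2daf8a98e82753adf32a5b0728c2831040)]),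
  ((nat_lit 18), [(nat_lit 0x6b38bdab49ca307b9ac5a928398a418820), (nat_lit 0x4b59c5ed5a4e307b9ac5a928398a418820), (nat_lit 0x6717b569396a307b9ac5a928398a418820), (nat_lit 0x4e5ace2f6ad2307b9ac5a928398a418820), (nat_lit 0x4a96c6a75be56d7c54c7412728c2831040), (nat_lit 0x4af3c5335d59ca7ae0c8b52440ce2304a0), (nat_lit 0x4f14cd75695dca7ae0c8b52440ce2304a0), (nat_lit 0x5272d6717b56307b9ac5a928398a418820), (nat_lit 0x6a75be654b616d7c54c7412728c2831040)]),
  ((nat_lit 1), [(nat_lit 0x6b38bdab49ca307b9ac5a928398a418820), (nat_lit 0x52d8d4eb7cc96d7c54c7412728c2831040), (nat_lit 0x5e78a66bab49ca7ae0c8b52440ce2304a0), (nat_lit 0x5e78a66bab49ca7ae0c8b525098471a080), (nat_lit 0x52d8d4eb7cc96d7c54c7412221901194e0), (nat_lit 0x6b38bdab49ca307b9ac5a92110c8531d00)]),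
  ((nat_lit 10), [(nat_lit 0x6b38bdab49ca307b9ac5a928398a418820), (nat_lit 0x6b38bdab49c94b635cf84528398a418820)]),
  ((nat_lit 19), [(nat_lit 0x6b38bdab49ca307b9ac5a928398a418820), (nat_lit 0x4e95b5f19d4a307b9ac5a928398a418820)])]

def tm_D0 : List ℕ := [(nat_lit 0), (nat_lit 513), (nat_lit 4097), (nat_lit 5121), (nat_lit 769), (nat_lit 5377), (nat_lit 212994), (nat_lit 226306), (nat_lit 238850), (nat_lit 270850), (nat_lit 280834), (nat_lit 317442), (nat_lit 333826), (nat_lit 374018), (nat_lit 413698), (nat_lit 457218), (nat_lit 501762), (nat_lit 548866), (nat_lit 595714), (nat_lit 679938), (nat_lit 734722), (nat_lit 790530), (nat_lit 849410), (nat_lit 944642), (nat_lit 1008130), (nat_lit 1110530), (nat_lit 1217026), (nat_lit 0), (nat_lit 40901379), (nat_lit 4609), (nat_lit 45202691), (nat_lit 11882515204), (nat_lit 1721858), (nat_lit 13695096580), (nat_lit 14635733764), (nat_lit 1935874), (nat_lit 17521852164), (nat_lit 19087203076), (nat_lit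 2112002), (nat_lit 22128905988), (nat_lit 23465064196), (nat_lit 25413493508), (nat_lit 28160422660), (nat_lit 2658818), (nat_lit 2933250), (nat_lit 0), (nat_lit 3468918912773), (nat_lit 3718651895045), (nat_lit 671640848745222), (nat_lit 50592470788), (nat_lit 53138854660), (nat_lit 56769044740), (nat_lit 964520065850118), (nat_lit 0x3c503454dd106), (nat_lit 0), (nat_lit 196611843), (nat_lit 175064835), (nat_lit 85210986244), (nat_lit 90339042052), (nat_lit 95756246788), (nat_lit 0), (nat_lit 3073), (nat_lit 0), (nat_lit 449069315)]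

def tm_L1 : List (ℕ × List ℕ) := [((nat_lit 0), [(nat_lit 0x6b38bdab49ca307b9ac5a928398a418820), (nat_lit 0x6b38bdab49ca307b9ac5a9220810731483), (nat_lit 0x6b38bdab49ca307b9ac5a92520c41020e6)]),
  ((nat_lit 9), [(nat_lit 0x6b38bdab49ca307b9ac5a928398a418820), (nat_lit 0x6b38bdab49c96a4c60f73588398a418820), (nat_lit 0x6b38bdab49c9cd62d498c1e8398a418820)]),
  ((nat_lit 18), [(nat_lit 0x6b38bdab49ca307b9ac5a928398a418820), (nat_lit 0x5272d6717b56307b9ac5a928398a418820), (nat_lit 0x5ed5a4e5ace2307b9ac5a928398a418820)]),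
  ((nat_lit 1), [(nat_lit 0x6b38bdab49ca307b9ac5a928398a418820), (nat_lit 0x52d8d4eb7cc96d7c54c7412221901194e0), (nat_lit 0x5e78a66bab49ca7ae0c8b525098471a080)])]

def tm_D1 : List ℕ := [(nat_lit 0), (nat_lit 513), (nat_lit 769), (nat_lit 0), (nat_lit 1025), (nat_lit 1281), (nat_lit 0), (nat_lit 1537), (nat_lit 1793), (nat_lit 0), (nat_lit 2049), (nat_lit 2305)]

def tm_L2 : List (ℕ × List ℕ) := [((nat_lit 0), [(nat_lit 0x6b38bdab49ca307b9ac5a928398a418820), (nat_lit 0x6b38bdab49ca307b9ac5a9220810731483), (nat_lit 0x6b38bdab49c907314831041183dcd62d49), (nat_lit 0x6b38bdab49ca307b9ac5a92520c41020e6), (nat_lit 0x6b38bdab49c907314831040b526307b9ac), (nat_lit 0x460f7358b52507314831041ace2f6ad272), (nat_lit 0x6b38bdab49c907314831040e6b16a4c60f), (nat_lit 0x460f7358b5250731483104149cb59c5ed5), (nat_lit 0x460f7358b525073148310417b569396b38)]),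
  ((nat_lit 9), [(nat_lit 0x6b38bdab49ca307b9ac5a928398a418820), (nat_lit 0x6b38bdab49c96a4c60f73588398a418820), (nat_lit 0x460f7358b52759c5ed5a4e48398a418820), (nat_lit 0x6b38bdab49c9cd62d498c1e8398a418820), (nat_lit 0x460f7358b5269396b38bdaa8398a418820), (nat_lit 0x460f7358b526f6ad272d6708398a418820)]),
  ((nat_lit 18), [(nat_lit 0x6b38bdab49ca307b9ac5a928398a418820), (nat_lit 0x5272d6717b56307b9ac5a928398a418820), (nat_lit 0x5ed5a4e5ace2307b9ac5a928398a418820)]),
  ((nat_lit 1), [(nat_lit 0x6b38bdab49ca307b9ac5a928398a418820), (nat_lit 0x52d8d4eb7cc96d7c54c7412221901194e0), (nat_lit 0x6b38bdab49ca307b9ac5a92110c8531d00), (nat_lit 0x5e78a66bab49ca7ae0c8b525098471a080), (nat_lit 0x52d8d4eb7cc96d7c54c7412728c2831040), (nat_lit 0x5e78a66bab49ca7ae0c8b52440ce2304a0)]),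
  ((nat_lit 10), [(nat_lit 0x6b38bdab49ca307b9ac5a928398a418820), (nat_lit 0x6b38bdab49c94b635cf84528398a418820)]),
  ((nat_lit 19), [(nat_lit 0x6b38bdab49ca307b9ac5a928398a418820), (nat_lit 0x4e95b5f19d4a307b9ac5a928398a418820)])]

def tm_D2 : List ℕ := [(nat_lit 0), (nat_lit 513), (nat_lit 4097), (nat_lit 769), (nat_lit 161794), (nat_lit 188930), (nat_lit 197890), (nat_lit 248322), (nat_lit 278274), (nat_lit 0), (nat_lit 1025), (nat_lit 4609), (nat_lit 1281), (nat_lit 475650), (nat_lit 545282), (nat_lit 0), (nat_lit 29137667), (nat_lit 31432963), (nat_lit 0), (nat_lit 2049), (nat_lit 2561), (nat_lit 2305), (nat_lit 952834), (nat_lit 1016066), (nat_lit 0), (nat_lit 3073), (nat_lit 0), (nat_lit 59116291)]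

def tm_L3 : List (ℕ × List ℕ) := [((nat_lit 0), [(nat_lit 0x6b38bdab49ca307b9ac5a928398a418820), (nat_lit 0x6b38bdab49ca307b9ac5a9220810731483), (nat_lit 0x6b38bdab49c907314831041183dcd62d49), (nat_lit 0x6b38bdab49ca307b9ac5a92041cc520c41), (nat_lit 0x6b38bdab49ca307b9ac5a92520c41020e6), (nat_lit 0x6b38bdab49ca307b9ac5a9273148310408), (nat_lit 0x6b38bdab49c907314831040b526307b9ac), (nat_lit 0x6b38bdab49ca307b9ac5a92310408398a4), (nat_lit 0x6b38bdab49ca307b9ac5a921020e629062), (nat_lit 0x460f7358b52507314831041ace2f6ad272), (nat_lit 0x6b38bdab49c907314831040e6b16a4c60f), (nat_lit 0x6b38bdab49c90731483104098c1ee6b16a), (nat_lit 0x6b38bdab49ca307b9ac5a9262906208107), (nat_lit 0x6b38bdab49ca307b9ac5a9241882041cc5), (nat_lit 0x6b38bdab49c90731483104107b9ac5a931), (nat_lit 0x460f7358b5250731483104149cb59c5ed5), (nat_lit 0x6b38bdab49c907314831040c5a93183dcd), (nat_lit 0x6b38bdab49c907314831040a4c60f7358b), (nat_lit 0x460f7358b525073148310417b569396b38),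 (nat_lit 0x460f7358b525073148310412d6717b5693), (nat_lit 0x6b38bdab49c907314831040f7358b52630), (nat_lit 0x6b38bdab49c907314831040d62d498c1ee), (nat_lit 0x460f7358b525073148310419c5ed5a4e5a), (nat_lit 0x460f7358b525073148310415a4e5ace2f6), (nat_lit 0x460f7358b52507314831041396b38bdab4), (nat_lit 0x460f7358b525073148310418bdab49cb59), (nat_lit 0x460f7358b525073148310416ad272d6717)]),
  ((nat_lit 9), [(nat_lit 0x6b38bdab49ca307b9ac5a928398a418820), (nat_lit 0x6b38bdab49c93183dcd62d48398a418820), (nat_lit 0x460f7358b52759c5ed5a4e48398a418820), (nat_lit 0x6b38bdab49ca0f7358b52628398a418820), (nat_lit 0x6b38bdab49c9498c1ee6b168398a418820), (nat_lit 0x460f7358b5265ace2f6ad268398a418820), (nat_lit 0x460f7358b52738bdab49cb48398a418820), (nat_lit 0x6b38bdab49c9ee6b16a4c608398a418820), (nat_lit 0x6b38bdab49c96a4c60f73588398a418820), (nat_lit 0x460f7358b52672d6717b5688398a418820), (nat_lit 0x460f7358b52717b569396b28398a418820), (nat_lit 0x6b38bdab49c9cd62d498c1e8398a418820),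 (nat_lit 0x6b38bdab49c98b526307b9a8398a418820), (nat_lit 0x460f7358b5269396b38bdaa8398a418820), (nat_lit 0x460f7358b526f6ad272d6708398a418820), (nat_lit 0x6b38bdab49c9ac5a93183dc8398a418820), (nat_lit 0x460f7358b526b49cb59c5ec8398a418820), (nat_lit 0x460f7358b526d5a4e5ace2e8398a418820)]),
  ((nat_lit 18), [(nat_lit 0x6b38bdab49ca307b9ac5a928398a418820), (nat_lit 0x4b59c5ed5a4e307b9ac5a928398a418820), (nat_lit 0x6717b569396a307b9ac5a928398a418820), (nat_lit 0x4e5ace2f6ad2307b9ac5a928398a418820), (nat_lit 0x62f6ad272d66307b9ac5a928398a418820), (nat_lit 0x5272d6717b56307b9ac5a928398a418820), (nat_lit 0x5ed5a4e5ace2307b9ac5a928398a418820), (nat_lit 0x569396b38bda307b9ac5a928398a418820), (nat_lit 0x5ab49cb59c5e307b9ac5a928398a418820)]),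
  ((nat_lit 1), [(nat_lit 0x6b38bdab49ca307b9ac5a928398a418820), (nat_lit 0x6b38bdab49ca307b9ac5a92110c8531d00)]),
  ((nat_lit 10), [(nat_lit 0x6b38bdab49ca307b9ac5a928398a418820), (nat_lit 0x6b38bdab49c94b635cf84528398a418820)]),
  ((nat_lit 19), [(nat_lit 0x6b38bdab49ca307b9ac5a928398a418820), (nat_lit 0x4e95b5f19d4a307b9ac5a928398a418820)])]

def tm_D3 : List ℕ := [(nat_lit 0), (nat_lit 513), (nat_lit 3585), (nat_lit 4609), (nat_lit 769), (nat_lit 4865), (nat_lit 183810), (nat_lit 196098), (nat_lit 207618), (nat_lit 237570), (nat_lit 247042), (nat_lit 283138), (nat_lit 293634), (nat_lit 334594), (nat_lit 372226), (nat_lit 413698), (nat_lit 456194), (nat_lit 501250), (nat_lit 546562), (nat_lit 627714), (nat_lit 646402), (nat_lit 733698), (nat_lit 790530), (nat_lit 882690), (nat_lit 944130), (nat_lit 1041154), (nat_lit 1146882), (nat_lit 0), (nat_lit 35844355), (nat_lit 4097), (nat_lit 39717123), (nat_lit 10769112324), (nat_lit 1638402), (nat_lit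 1765378), (nat_lit 14004560132), (nat_lit 15353355524), (nat_lit 1935362), (nat_lit 2121730), (nat_lit 19988429060), (nat_lit 21744528644), (nat_lit 2308098), (nat_lit 2510850), (nat_lit 27711623428), (nat_lit 2663426), (nat_lit 2879490), (nat_lit 0), (nat_lit 3150693875461), (nat_lit 3381682216197), (nat_lit 605835097654022), (nat_lit 671540738466054), (nat_lit 743082755655430), (nat_lit 820868891755782), (nat_lit 905327867169542), (nat_lit 996910149912838), (nat_lit 0), (nat_lit 2049), (nat_lit 0), (nat_lit 2561), (nat_lit 0), (nat_lit 380644099)]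

def tm_L4 : List (ℕ × List ℕ) := [((nat_lit 0), [(nat_lit 0x6b38bdab49ca307b9ac5a928398a418820), (nat_lit 0x6b38bdab49ca307b9ac5a92041cc520c41), (nat_lit 0x6b38bdab49ca307b9ac5a9273148310408), (nat_lit 0x6b38bdab49ca307b9ac5a921020e629062), (nat_lit 0x52d8d4eb7cc96d7c54c74120110c808ca7), (nat_lit 0x5e78a66bab49ca7ae0c8b520284c238d04), (nat_lit 0x5e78a66bab49ca7ae0c8b521308e341005), (nat_lit 0x6b38bdab49ca307b9ac5a9220810731483), (nat_lit 0x52d8d4eb7cc96d7c54c7412808ca700886)]),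
  ((nat_lit 9), [(nat_lit 0x6b38bdab49ca307b9ac5a928398a418820), (nat_lit 0x6b38bdab49c93183dcd62d48398a418820), (nat_lit 0x6b38bdab49ca0f7358b52628398a418820), (nat_lit 0x6b38bdab49c9498c1ee6b168398a418820), (nat_lit 0x52d8d4eb7cc92b6be2a63a0221901194e0), (nat_lit 0x5e78a66bab492e53d70645a5098471a080), (nat_lit 0x5e78a66bab494f5c1916a5c5098471a080), (nat_lit 0x6b38bdab49c96a4c60f73588398a418820), (nat_lit 0x52d8d4eb7cca2a63a095b5e221901194e0)]),
  ((nat_lit 18), [(nat_lit 0x6b38bdab49ca307b9ac5a928398a418820), (nat_lit 0x4b59c5ed5a4e307b9ac5a928398a418820), (nat_lit 0x6717b569396a307b9ac5a928398a418820), (nat_lit 0x4e5ace2f6ad2307b9ac5a928398a418820), (nat_lit 0x4a96c6a75be56d7c54c7412221901194e0), (nat_lit 0x4af3c5335d59ca7ae0c8b525098471a080), (nat_lit 0x4f14cd75695dca7ae0c8b525098471a080), (nat_lit 0x5272d6717b56307b9ac5a928398a418820), (nat_lit 0x6a75be654b616d7c54c7412221901194e0)]),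
  ((nat_lit 1), [(nat_lit 0x6b38bdab49ca307b9ac5a928398a418820), (nat_lit 0x52d8d4eb7cc96d7c54c7412221901194e0), (nat_lit 0x5e78a66bab49ca7ae0c8b525098471a080)])]

def tm_D4 : List ℕ := [(nat_lit 0), (nat_lit 513), (nat_lit 769), (nat_lit 49666), (nat_lit 57346), (nat_lit 63746), (nat_lit 81154), (nat_lit 98818), (nat_lit 120578), (nat_lit 0), (nat_lit 1025), (nat_lit 1281), (nat_lit 262146), (nat_lit 278530), (nat_lit 294146), (nat_lit 329986), (nat_lit 366594), (nat_lit 406786), (nat_lit 0), (nat_lit 1537), (nat_lit 1793), (nat_lit 640514), (nat_lit 665602), (nat_lit 690434), (nat_lit 744706), (nat_lit 800258), (nat_lit 858882), (nat_lit 0), (nat_lit 2049), (nat_lit 2305)]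

def tm_L5 : List (ℕ × List ℕ) := [((nat_lit 0), [(nat_lit 0x6b38bdab49ca307b9ac5a928398a418820), (nat_lit 0x6b38bdab49ca307b9ac5a92041cc520c41), (nat_lit 0x20e62906208359c5ed5a4e5183dcd62d49), (nat_lit 0x6b38bdab49ca307b9ac5a9273148310408), (nat_lit 0x460f7358b52507314831041ace2f6ad272), (nat_lit 0x6b38bdab49ca307b9ac5a921020e629062), (nat_lit 0x52d8d4eb7cc96d7c54c74120110c808ca7), (nat_lit 0x20e62906208359c5ed5a4e498c1ee6b16a), (nat_lit 0x5e78a66bab49ca7ae0c8b520284c238d04), (nat_lit 0x460f7358b525073148310412d6717b5693), (nat_lit 0x20e62906208359c5ed5a4e507b9ac5a931), (nat_lit 0x5e78a66bab49ca7ae0c8b521308e341005), (nat_lit 0x460f7358b525073148310419c5ed5a4e5a), (nat_lit 0x6b38bdab49ca307b9ac5a9220810731483), (nat_lit 0x20e62906208359c5ed5a4e4a4c60f7358b), (nat_lit 0x460f7358b52507314831041396b38bdab4), (nat_lit 0x8864046538296c6a75be6495b5f1531d0), (nat_lit 0x52d8d4eb7cc96d7c54c7412808ca700886), (nat_lit 0x2daf8a98e824443202329c12a5b1a9d6f9),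 (nat_lit 0x142611c68202f3c5335d5a49729eb8322d), (nat_lit 0x394f5c1916a4a1308e341012bcf14cd756), (nat_lit 0x142611c68202f3c5335d5a4a7ae0c8b52e), (nat_lit 0x394f5c1916a4a1308e341013c5335d5a57), (nat_lit 0x20e62906208359c5ed5a4e4b526307b9ac), (nat_lit 0x460f7358b5250731483104149cb59c5ed5), (nat_lit 0x8864046538296c6a75be651531d04adaf), (nat_lit 0x2daf8a98e824443202329c1a9d6f9952d8)]),
  ((nat_lit 9), [(nat_lit 0x6b38bdab49ca307b9ac5a928398a418820), (nat_lit 0x6b38bdab49c93183dcd62d48398a418820), (nat_lit 0x6b38bdab49ca0f7358b52628398a418820), (nat_lit 0x6b38bdab49c9498c1ee6b168398a418820), (nat_lit 0x52d8d4eb7cc92b6be2a63a0221901194e0), (nat_lit 0x5e78a66bab492e53d70645a5098471a080), (nat_lit 0x5e78a66bab494f5c1916a5c5098471a080), (nat_lit 0x6b38bdab49c96a4c60f73588398a418820), (nat_lit 0x52d8d4eb7cca2a63a095b5e221901194e0)]),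
  ((nat_lit 18), [(nat_lit 0x6b38bdab49ca307b9ac5a928398a418820), (nat_lit 0x4b59c5ed5a4e307b9ac5a928398a418820), (nat_lit 0x6717b569396a307b9ac5a928398a418820), (nat_lit 0x4e5ace2f6ad2307b9ac5a928398a418820), (nat_lit 0x4a96c6a75be56d7c54c7412221901194e0), (nat_lit 0x4af3c5335d59ca7ae0c8b525098471a080), (nat_lit 0x4f14cd75695dca7ae0c8b525098471a080), (nat_lit 0x5272d6717b56307b9ac5a928398a418820), (nat_lit 0x6a75be654b616d7c54c7412221901194e0)]),
  ((nat_lit 1), [(nat_lit 0x6b38bdab49ca307b9ac5a928398a418820), (nat_lit 0x52d8d4eb7cc96d7c54c7412221901194e0), (nat_lit 0x5e78a66bab49ca7ae0c8b525098471a080)])]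

def tm_D5 : List ℕ := [(nat_lit 0), (nat_lit 513), (nat_lit 2561), (nat_lit 769), (nat_lit 2817), (nat_lit 79362), (nat_lit 88066), (nat_lit 95746), (nat_lit 102658), (nat_lit 110338), (nat_lit 132354), (nat_lit 158978), (nat_lit 168706), (nat_lit 214530), (nat_lit 227842), (nat_lit 239362), (nat_lit 272898), (nat_lit 283394), (nat_lit 297730), (nat_lit 335106), (nat_lit 375554), (nat_lit 444674), (nat_lit 490242), (nat_lit 566786), (nat_lit 586498), (nat_lit 699650), (nat_lit 756482), (nat_lit 0), (nat_lit 1025), (nat_lit 1281), (nat_lit 1254402), (nat_lit 1290242), (nat_lit 1325314), (nat_lit 1400066), (nat_lit 1475586), (nat_lit 1554690), (nat_lit 0), (nat_lit 1537), (nat_lit 1793), (nat_lit 1982978), (nat_lit 2027522), (nat_lit 2071810), (nat_lit 2164994), (nat_lit 2259458), (nat_lit 2356994), (nat_lit 0), (nat_lit 2049), (nat_lit 2305)]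

def tm_L6 : List (ℕ × List ℕ) := [((nat_lit 0), [(nat_lit 0x6b38bdab49ca307b9ac5a928398a418820), (nat_lit 0x6b38bdab49ca307b9ac5a9220810731483), (nat_lit 0x6b38bdab49ca307b9ac5a92520c41020e6)]),
  ((nat_lit 9), [(nat_lit 0x6b38bdab49ca307b9ac5a928398a418820), (nat_lit 0x6b38bdab49c96a4c60f73588398a418820), (nat_lit 0x6b38bdab49c9cd62d498c1e8398a418820)]),
  ((nat_lit 18), [(nat_lit 0x6b38bdab49ca307b9ac5a928398a418820), (nat_lit 0x5272d6717b56307b9ac5a928398a418820), (nat_lit 0x5ed5a4e5ace2307b9ac5a928398a418820)])]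

def tm_D6 : List ℕ := [(nat_lit 0), (nat_lit 513), (nat_lit 769), (nat_lit 0), (nat_lit 1025), (nat_lit 1281), (nat_lit 0), (nat_lit 1537), (nat_lit 1793)]

def tm : PM :=
  ⟨(nat_lit 27), (nat_lit 5), [(nat_lit 0x6b38bdab49ca307b9ac5a9220810731483), (nat_lit 0x6b38bdab49c96a4c60f73588398a418820), (nat_lit 0x5272d6717b56307b9ac5a928398a418820), (nat_lit 0x6b38bdab49ca307b9ac5a92110c8531d00), (nat_lit 0x6b38bdab49c94b635cf84528398a418820), (nat_lit 0x4e95b5f19d4a307b9ac5a928398a418820), (nat_lit 0x6b38bdab49c907314831041183dcd62d49), (nat_lit 0x460f7358b52759c5ed5a4e48398a418820), (nat_lit 0x6b38bdab49ca307b9ac5a928398a418820), (nat_lit 0x52d8d4eb7cc96d7c54c7412221901194e0), (nat_lit 0x6b38bdab49ca307b9ac5a928398a418820), (nat_lit 0x6b38bdab49ca307b9ac5a928398a418820), (nat_lit 0x6b38bdab49ca307b9ac5a928398a418820), (nat_lit 0x6b38bdab49ca307b9ac5a928398a418820), (nat_lit 0x6b38bdab49ca307b9ac5a92041cc520c41)],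
    [[.l 1, .l 2, .l 3, .l 10, .l 4, .l 5, .l 6, .l 7, .l 8, .l 15],
    [.l 1, .l 2, .l 3, .l 10],
    [.l 1, .l 2, .l 3, .l 10, .l 4, .l 5, .l 6, .l 7, .l 8],
    [.l 1, .l 2, .l 3, .l 4, .l 5, .l 6, .l 7, .l 8, .l 15],
    [.l 15, .mul (.mul (.l 7) (.l 15)) (.l 7), .mul (.mul (.mul (.mul (.l 8) (.l 7)) (.l 15)) (.l 7)) (.l 8), .l 10],
    [.l 15, .mul (.mul (.l 7) (.l 15)) (.l 7), .mul (.mul (.mul (.mul (.l 8) (.l 7)) (.l 15)) (.l 7)) (.l 8), .l 10, .mul (.l 7) (.l 8)],
    [.l 1, .l 2, .l 3]],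
    [tm_L0, tm_L1, tm_L2, tm_L3, tm_L4, tm_L5, tm_L6], [tm_D0, tm_D1, tm_D2, tm_D3, tm_D4, tm_D5, tm_D6]⟩

instance tm_ne : NeZero tm.n := ⟨by decide⟩

theorem tm_ok0 : tm.ok0 = true := by decide +kernel

theorem tm_k0 : allFrom (nat_lit 0) (nat_lit 1) tm.okK = true := by decide +kernel

theorem tm_k1 : allFrom (nat_lit 1) (nat_lit 1) tm.okK = true := by decide +kernel

theorem tm_k2 : allFrom (nat_lit 2) (nat_lit 1) tm.okK = true := by decide +kernel

theorem tm_k3 : allFrom (nat_lit 3) (nat_lit 1) tm.okK = true := by decide +kernel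

theorem tm_k4 : allFrom (nat_lit 4) (nat_lit 1) tm.okK = true := by decide +kernel

theorem tm_k5 : allFrom (nat_lit 5) (nat_lit 1) tm.okK = true := by decide +kernel

theorem tm_k6 : allFrom (nat_lit 6) (nat_lit 1) tm.okK = true := by decide +kernel

theorem tm_ok : tm.OK := PM.OK.of_check tm_ok0
  (of_allFrom_append (of_allFrom_append (of_allFrom_append (of_allFrom_append (of_allFrom_append (of_allFrom_append (of_allFrom_append of_lt_zero tm_k0) tm_k1) tm_k2) tm_k3) tm_k4) tm_k5) tm_k6)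

theorem tm_card0 : Nat.card (genW tm.gam (tm.ws 0)) = 104976 := (tm_ok.card 0).trans (by decide +kernel)

theorem tm_card1 : Nat.card (genW tm.gam (tm.ws 1)) = 81 := (tm_ok.card 1).trans (by decide +kernel)

theorem tm_card2 : Nat.card (genW tm.gam (tm.ws 2)) = 3888 := (tm_ok.card 2).trans (by decide +kernel)

theorem tm_card3 : Nat.card (genW tm.gam (tm.ws 3)) = 34992 := (tm_ok.card 3).trans (by decide +kernel)

theorem tm_card4 : Nat.card (genW tm.gam (tm.ws 4)) = 2187 := (tm_ok.card 4).trans (by decide +kernel)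

theorem tm_card5 : Nat.card (genW tm.gam (tm.ws 5)) = 6561 := (tm_ok.card 5).trans (by decide +kernel)

theorem tm_card6 : Nat.card (genW tm.gam (tm.ws 6)) = 27 := (tm_ok.card 6).trans (by decide +kernel)

/-- relators -/
def rX : List W := [.pow (.l 10) 3, .mul (.mul (.mul (.l 10) (.l 1)) (.inv (.l 10))) (.inv (.l 1)), .mul (.mul (.mul (.l 10) (.l 2)) (.inv (.l 10))) (.inv (.l 2)), .mul (.mul (.mul (.l 10) (.l 3)) (.inv (.l 10))) (.inv (.l 3)), .mul (.mul (.mul (.l 10) (.l 4)) (.inv (.l 10))) (.l 4), .mul (.mul (.mul (.l 10) (.l 5)) (.inv (.l 10))) (.l 5), .mul (.mul (.mul (.l 10) (.l 6)) (.inv (.l 10))) (.l 6), .mul (.mul (.mul (.l 10) (.l 7)) (.inv (.l 10))) (.l 7), .mul (.mul (.mul (.l 10) (.l 8)) (.inv (.l 10))) (.l 8)]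

/-- relators -/
def rU : List W := [.mul (.pow (.l 15) 3) (.inv (.l 1)), .pow (.mul (.l 4) (.l 15)) 2, .mul (.mul (.mul (.l 5) (.l 15)) (.l 5)) (.inv (.l 15)), .mul (.mul (.mul (.l 6) (.l 15)) (.l 6)) (.inv (.l 15)), .mul (.mul (.mul (.l 8) (.l 15)) (.l 8)) (.inv (.l 15)), .mul (.mul (.mul (.mul (.l 15) (.l 10)) (.inv (.l 15))) (.inv (.l 1))) (.inv (.l 10)), .mul (.mul (.mul (.l 15) (.mul (.mul (.l 7) (.l 15)) (.l 7))) (.inv (.l 15))) (.inv (.mul (.mul (.l 7) (.l 15)) (.l 7)))]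

/-- relators -/
def rBW : List W := rK2 ++ rX

/-- relators -/
def rTm : List W := rBW ++ rU

/-- inverse letters -/
def tBW_iv : ℕ := 11918954631723873644896

/-- inverse letters -/
def tBW_labs : List W := [.l 0, .l 1, .l 2, .l 3, .l 4, .l 5, .l 6, .l 7, .l 8, .l 0, .l 10, .inv (.l 1), .inv (.l 2), .inv (.l 3), .inv (.l 10)]

def tBW_F : Tr := .leaf (nat_lit 0x74a51223c78d1a2c589121cd85320cb90a13a74c992a548916a358895a150203870c1828508106831808581153872a0000)
def tBW_T : Tr := .leaf (nat_lit 36)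
def tBW_P : Tr := .leaf (nat_lit 0x7fc007fc007fc007fc007fc007fc007fc007fc007fc007fc007fc007fc007fc007fc007fc10500017085428030f842614018782110a00c3a107850061c083428030d841414018682080a00c321030500618045418010f82260c00878111060043a087830021c043418010d82160c0086810906004320838300218)
def tBW_N_0 : Tr := .node (.node (.node (.node (.leaf (nat_lit 1057))
  (.leaf (nat_lit 1035)))
  (.leaf (nat_lit 353)))
  (.node (.leaf (nat_lit 204968))
  (.leaf (nat_lit 198))))
  (.node (.node (.node (.leaf (nat_lit 434248))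
  (.leaf (nat_lit 334)))
  (.leaf (nat_lit 13315)))
  (.node (.leaf (nat_lit 374826))
  (.leaf (nat_lit 297))))
def tBW_N_1 : Tr := .node (.node (.node (.node (.leaf (nat_lit 437345))
  (.leaf (nat_lit 109)))
  (.leaf (nat_lit 386)))
  (.node (.leaf (nat_lit 203975))
  (.leaf (nat_lit 7175))))
  (.node (.node (.leaf (nat_lit 433255))
  (.leaf (nat_lit 165)))
  (.node (.leaf (nat_lit 178346))
  (.leaf (nat_lit 458))))
def tBW_N_2 : Tr := .node (.node (.node (.node (.leaf (nat_lit 3171))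
  (.leaf (nat_lit 76)))
  (.leaf (nat_lit 11265)))
  (.node (.leaf (nat_lit 266500))
  (.leaf (nat_lit 231))))
  (.node (.node (.node (.leaf (nat_lit 430180))
  (.leaf (nat_lit 0)))
  (.leaf (nat_lit 132)))
  (.node (.leaf (nat_lit 440426))
  (.leaf (nat_lit 9225))))
def tBW_N_3 : Tr := .node (.node (.node (.node (.leaf (nat_lit 36900))
  (.leaf (nat_lit 3085)))
  (.leaf (nat_lit 419)))
  (.node (.leaf (nat_lit 201925))
  (.leaf (nat_lit 264))))
  (.node (.node (.leaf (nat_lit 366630))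
  (.leaf (nat_lit 5125)))
  (.node (.leaf (nat_lit 243946))
  (.leaf (nat_lit 43))))
def tBW_N_4 : Tr := .node (.node (.node (.node (.leaf (nat_lit 2114))
  (.leaf (nat_lit 76)))
  (.leaf (nat_lit 353)))
  (.node (.leaf (nat_lit 168100))
  (.leaf (nat_lit 6150))))
  (.node (.node (.node (.leaf (nat_lit 397380))
  (.leaf (nat_lit 10254)))
  (.leaf (nat_lit 132)))
  (.node (.leaf (nat_lit 407626))
  (.leaf (nat_lit 297))))
def tBW_N_5 : Tr := .node (.node (.node (.node (.leaf (nat_lit 438370))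
  (.leaf (nat_lit 109)))
  (.leaf (nat_lit 12290)))
  (.node (.leaf (nat_lit 200900))
  (.leaf (nat_lit 264))))
  (.node (.node (.leaf (nat_lit 365605))
  (.leaf (nat_lit 165)))
  (.node (.leaf (nat_lit 211146))
  (.leaf (nat_lit 14346))))
def tBW_N_6 : Tr := .node (.node (.node (.node (.leaf (nat_lit 404545))
  (.leaf (nat_lit 2060)))
  (.leaf (nat_lit 386)))
  (.node (.leaf (nat_lit 276045063))
  (.leaf (nat_lit 231))))
  (.node (.node (.node (.leaf (nat_lit 368680))
  (.leaf (nat_lit 0)))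
  (.leaf (nat_lit 4100)))
  (.node (.leaf (nat_lit 145546))
  (.leaf (nat_lit 458))))
def tBW_N_7 : Tr := .node (.node (.node (.node (.leaf (nat_lit 400423))
  (.leaf (nat_lit 334)))
  (.leaf (nat_lit 419)))
  (.node (.leaf (nat_lit 10570))
  (.leaf (nat_lit 8200))))
  (.node (.node (.leaf (nat_lit 171143))
  (.leaf (nat_lit 198)))
  (.node (.leaf (nat_lit 276746))
  (.leaf (nat_lit 43))))
def tBW_N : Tr := .node (.node (.node tBW_N_0
  tBW_N_1)
  (.node tBW_N_2
  tBW_N_3))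
  (.node (.node tBW_N_4
  tBW_N_5)
  (.node tBW_N_6
  tBW_N_7))
noncomputable def tBW : TC :=
  ⟨[.l 0, .l 1, .l 2, .l 3, .l 4, .l 5, .l 6, .l 7, .l 8, .l 9, .l 10, .l 11, .l 12, .l 13, .l 14],
    (nat_lit 2), (nat_lit 7), (nat_lit 0x28620b928398a46b160), (nat_lit 511), (nat_lit 3), (nat_lit 8), (nat_lit 32), (nat_lit 1), (nat_lit 76),
    get (nat_lit 10) (nat_lit 0x1003010030080400c02010030080400c02010030080400c02010030080400c02010030080400c02010030080400c02010030080400c020100401004010040100400c040100401804010040100401004010040100401004010040100300c03), Tr.get tBW_N, get (nat_lit 20) (nat_lit 0x3ff003ff003ff003ff003ff003ff003ff003ff003ff003ff003ff003ff003ff003ff003ff003ff003ff003ff003ff003ff003ff003ff003ff003ff003ff003ff003ff003ff003ff003ff003ff003ff003ff003ff003ff003ff003ff003ff003ff003ff003ff003ff003ff003ff00024000230002200021000200001f0001e0001d0001c0001b0001a0001900018000170001600015000140000e0000d0000c0000b0000a00009000080000700006000050000400003000020000100000),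
    Tr.get3 tBW_F (nat_lit 14) (nat_lit 6), Tr.get3 tBW_T (nat_lit 2) (nat_lit 8), Tr.get tBW_P⟩

theorem tBW_head : tBW.headOK rBW tBW_iv = true := by decide +kernel

theorem tBW_b0 : allFrom (nat_lit 0) (nat_lit 1) tBW.blockOK = true := by decide +kernel

def tBW_Q8 : Tr := .leaf (nat_lit 215316)
theorem tBW_f8_0 : allFrom (nat_lit 0) (nat_lit 3) (tBW.finOK (nat_lit 3) (Tr.get3 tBW_Q8 (nat_lit 6) (nat_lit 7)) (nat_lit 8)) = true := by
  decide +kernel

def tBW_Q7 : Tr := .leaf (nat_lit 206994)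
theorem tBW_f7_0 : allFrom (nat_lit 0) (nat_lit 3) (tBW.finOK (nat_lit 3) (Tr.get3 tBW_Q7 (nat_lit 6) (nat_lit 7)) (nat_lit 7)) = true := by
  decide +kernel

def tBW_Q6 : Tr := .leaf (nat_lit 198672)
theorem tBW_f6_0 : allFrom (nat_lit 0) (nat_lit 3) (tBW.finOK (nat_lit 3) (Tr.get3 tBW_Q6 (nat_lit 6) (nat_lit 7)) (nat_lit 6)) = true := by
  decide +kernel

def tBW_Q5 : Tr := .leaf (nat_lit 190350)
theorem tBW_f5_0 : allFrom (nat_lit 0) (nat_lit 3) (tBW.finOK (nat_lit 3) (Tr.get3 tBW_Q5 (nat_lit 6) (nat_lit 7)) (nat_lit 5)) = true := by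
  decide +kernel

def tBW_Q4 : Tr := .leaf (nat_lit 182028)
theorem tBW_f4_0 : allFrom (nat_lit 0) (nat_lit 3) (tBW.finOK (nat_lit 3) (Tr.get3 tBW_Q4 (nat_lit 6) (nat_lit 7)) (nat_lit 4)) = true := by
  decide +kernel

def tBW_Q10 : Tr := .leaf (nat_lit 23938)
theorem tBW_f10_0 : allFrom (nat_lit 0) (nat_lit 3) (tBW.finOK (nat_lit 3) (Tr.get3 tBW_Q10 (nat_lit 6) (nat_lit 7)) (nat_lit 10)) = true := by
  decide +kernel

def tBW_Q3 : Tr := .leaf (nat_lit 177802)
theorem tBW_f3_0 : allFrom (nat_lit 0) (nat_lit 3) (tBW.finOK (nat_lit 3) (Tr.get3 tBW_Q3 (nat_lit 6) (nat_lit 7)) (nat_lit 3)) = true := by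
  decide +kernel

def tBW_Q2 : Tr := .leaf (nat_lit 169480)
theorem tBW_f2_0 : allFrom (nat_lit 0) (nat_lit 3) (tBW.finOK (nat_lit 3) (Tr.get3 tBW_Q2 (nat_lit 6) (nat_lit 7)) (nat_lit 2)) = true := by
  decide +kernel

def tBW_Q1 : Tr := .leaf (nat_lit 161158)
theorem tBW_f1_0 : allFrom (nat_lit 0) (nat_lit 3) (tBW.finOK (nat_lit 3) (Tr.get3 tBW_Q1 (nat_lit 6) (nat_lit 7)) (nat_lit 1)) = true := by
  decide +kernel

theorem tBW_blocks : ∀ t < tBW.k, tBW.blockOK t = true :=
  (of_allFrom_append of_lt_zero tBW_b0)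

/-- index 3 max 3 total 3 facts 28 | needed cosets 3 facts 28 steps 50 trivial 0 -/
theorem tBW_index {G : Type*} [Group G] {γ : ℕ → G} (hL : Lab γ tBW_iv) (hr : ∀ t ∈ rBW, t.ev γ = 1) {K : Subgroup G}
    (hK : ∀ t ∈ ([.l 1, .l 2, .l 3, .l 4, .l 5, .l 6, .l 7, .l 8] : List W), t.ev γ ∈ K) :
    K.relIndex (genW γ [.l 1, .l 2, .l 3, .l 10, .l 4, .l 5, .l 6, .l 7, .l 8]) ≠ 0 ∧ K.relIndex (genW γ [.l 1, .l 2, .l 3, .l 10, .l 4, .l 5, .l 6, .l 7, .l 8]) ≤ 3 :=
  TC.relIndex_le (D := tBW) (gens := [1, 2, 3, 10, 4, 5, 6, 7, 8]) hL (List.forall_mem_cons.2 ⟨hL.zero_mem K, hK⟩) hr tBW_head tBW_blocks (by decide) (by decide)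
   (List.forall_mem_cons.2 ⟨⟨_, (of_allFrom_append of_lt_zero tBW_f1_0)⟩,
    List.forall_mem_cons.2 ⟨⟨_, (of_allFrom_append of_lt_zero tBW_f2_0)⟩,
    List.forall_mem_cons.2 ⟨⟨_, (of_allFrom_append of_lt_zero tBW_f3_0)⟩,
    List.forall_mem_cons.2 ⟨⟨_, (of_allFrom_append of_lt_zero tBW_f10_0)⟩,
    List.forall_mem_cons.2 ⟨⟨_, (of_allFrom_append of_lt_zero tBW_f4_0)⟩,
    List.forall_mem_cons.2 ⟨⟨_, (of_allFrom_append of_lt_zero tBW_f5_0)⟩,
    List.forall_mem_cons.2 ⟨⟨_, (of_allFrom_append of_lt_zero tBW_f6_0)⟩,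
    List.forall_mem_cons.2 ⟨⟨_, (of_allFrom_append of_lt_zero tBW_f7_0)⟩,
    List.forall_mem_cons.2 ⟨⟨_, (of_allFrom_append of_lt_zero tBW_f8_0)⟩,
    fun _ h => absurd h List.not_mem_nil⟩⟩⟩⟩⟩⟩⟩⟩⟩)

theorem tBW_idx {G : Type*} [Group G] {γ : ℕ → G} (h0 : γ 0 = 1) (hr : ∀ t ∈ rBW, t.ev γ = 1) {K : Subgroup G}
    (hK : ∀ t ∈ ([.l 1, .l 2, .l 3, .l 4, .l 5, .l 6, .l 7, .l 8] : List W), t.ev γ ∈ K) :
    K.relIndex (genW γ [.l 1, .l 2, .l 3, .l 10, .l 4, .l 5, .l 6, .l 7, .l 8]) ≠ 0 ∧ K.relIndex (genW γ [.l 1, .l 2, .l 3, .l 10, .l 4, .l 5, .l 6, .l 7, .l 8]) ≤ 3 := by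
  have a := lab_of_rels h0 hr (iv := tBW_iv) (labs := tBW_labs) (by decide +kernel)
  have b := tBW_index a.1 a.2 (mems_fix (by decide +kernel) hK)
  rwa [genW_fix (by decide +kernel)] at b

/-- inverse letters -/
def tTm_iv : ℕ := 19414692988891682189866057680384

/-- inverse letters -/
def tTm_labs : List W := [.l 0, .l 1, .l 2, .l 3, .l 4, .l 5, .l 6, .l 7, .l 8, .l 0, .l 10, .l 0, .l 0, .l 0, .l 0, .l 15, .inv (.l 1), .inv (.l 2), .inv (.l 3), .inv (.l 10), .inv (.l 15)]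

def tTm_F : Tr := .leaf (nat_lit 0x14d4da93436a2d09a8341688d119a34f64ed1da434868cb19a2b05686cc998321644cc593b07666ca99432864ca9992ae5654c4d89303622c0988301608c117a30f5d0b2183286602bc178ae25c6bc973ae75e6ba9742a85cc999752d35a4b0d68ac25a0b05622c4568b3d53ac758aa1561ab2564a0d41a724e2a09412714e0a8550a3046090529aaa5669a9312b1554a4d40a90506548a19322463c8711d1380502c18d21846c4d0120ac4644c00e0a80703011712c0302901a0bc284100180b827c0f0160b40803306203c078320a704de9d143a8754a9955866140b897322844d0a2143a674d09a1386213d09212525348c81922a254889112924348494523606b8979304588c108211523344c7991222446488d1123144d79ad4568bd484d029e540881109203404845025a4b91522e41e83d47ccf21e43e478cf11f13d14a2d2d65a4f51eb51d33a470ce81c1388710da1cf350520e318638a714e09b03466c8d99aa3504a0d316634a694d2524a8f49e9519332460cc8181308610ba18f2d03a0c29853025c0b19722e65a8b40c82ca594b51532a2508a81412885109a14f24e51ca314628a394a88e21c4344681212442c4508b0160404889022264a8998ca1844c4950f31c23c071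8921061c8390430802027183204018231051080102100407c0f8280040a0008241031040081c0890100101e0040800e02408700c0081b0080980081d04400c0182508d019e350738e724c498928c524e41c85113208410830a620a4148191220921281c12a0624a784c110b116620e418c39873ca774e31c630c618e29c550b3148290528a51462c851bb29061ca384410d1022123a481424c4308610a19442084104244423847c8d91e50730cc198320640c41c4343886c20c01085009414c2204406813c1404808c118228450a60a81402804c098128250660280400800e01c0300600a0140200402400c0880202000407b544a8cbd27b14468bbd17ad4428abd03e67b9ea50f0e503e89bcf3e27b4e91ce8e0238e89cd8de234e81cc8dc230e79cb8da22e560ca956325e7508a1af22550c7952319e6505a16f15e5504a12f110420415117cf39df3cc779e3d030cb00e833c340a80c5245c3c6770f11db1c32085044238870a4f8c28bc2084ec413867064e0c18b6205e1500a02f0000000)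
def tTm_T : Tr := .leaf (nat_lit 0xb6ba679638607dc6d551344e34c2ca2071840f3cb1c2fbacaa89a489e75a6585d64903c9142040)
def tTm_P : Tr := .node (.node (.node (.leaf (nat_lit 0x1e25c1f000120789907c008401e2541f0060807008034018141a0200b0060c028070640081c1621c15000080508a0340002412234130041e0488504c00850122280b0060f0488304c0083c1223c13006070408a024010280e22807004090288002c010780a1f40b002140287b02c0083c0a2440b006070187e02401020892348820401894041e005230018948a2008b0041b0086e01400084021a405002200107701400090041cc05000230107101400088021e46900c00894021dc03004240087300c0108c021c40300422))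
  (.leaf (nat_lit 0x1416d4d56c1440084c505dc510041e1416b12400850505c04d0060f141691440083c505d4510020c141721440181d8b665a8002151397012c010244e5b441004081316138d4c1240084c4c5884d0041e1315f114008504c5744d0020f13164134008304c59c4d006075f57b658018404a5843f00408121571240107848540450060f1214b1240083c48554490020c121521240181c4654043004091194d0e4010204450cc15084500213111441140107844504450020f1114611400830445244500607109430dc0102158569780060f)))
  (.node (.leaf (nat_lit 0xb8a20c4000852b0b831000200c01201075014130c4038983029c31000230c0a509400088c64b0c700209300e73040181cdf398de0020d2f1272f40181cd6490d70060e371233740081c2c4582d0020838d1a38800078c7468c60001b38d193880181d180909b09402094e50802500620440cd0005b430b10005b420160002e0a10704e008e8fc0200016c1a3f40b8023a3e00e000582b4f721e008f50440c0018ccf3dc118022e3450122e008c4f53f40018cf001800160923c47f8023d3b8ca00055))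
  (.leaf (nat_lit 0x1819e18c00086301806300020189a517c0009062684590002389e088980182e2784a260020889dff89801820601303a3743b1346100626181a28186100225181a51740109060684550042386a0286c0106e1a84a1b0020a869fe86c008261a8221b002061719017c00086091705f00020178480d0bd0d44917c038985e64c590002272e1072801831c2839c30020a6f20b6f401821c2829c3002096f9cf6fc0181dc9739c80020d6ca046cc01834507c8510020772dfc72800079c37f1c20001b72dfb7280181dfa1618516402095cd1505900620))))
  (.node (.node (.leaf (nat_lit 0x9cef04a008e8ab3b48b802312cced026008b8eb2b800154193a80a8023a324ea292008d0c33a40a8023a08ce92be008a022094e50820008020094e5006203882e0488802c21304020982e048041d40302c25002260b8a70bc0108c2e29421004220b01221c130b40004c2c2a42d0041f0b0a30b4000482c2941f006100b0a70b4008402c2842d006080a89f074000242a04015006050a01004c018301203c27002070989d0640183c202582500021090990940008c0c02c23000070800a0087500c0b084018982026421004230780a1fc0b07c0004c1e26c1f0041f))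
  (.leaf (nat_lit 0x1f01000016dea0f80016de60e00016de413800161a67956d8023d780360005b7784a00058659df586008f5da118001618876d4d8023d6a9db5aa008ddd6108001617c75d438023d661d757a008ddd4718001545b754488023a74dba0005514dd2112008e9c5749928023415dd16ee008a056165cd1520008054165cd006207285c1214e114556fc020985c120342f433114590022617193154010884811c5b002071698b14c0183c546085900021161871640009054110322f433114550062615187154010904410c5300207)))
  (.node (.leaf (nat_lit 0xf8e30e40103170589710041b5c1645c4008297059d71002060e8d80f400085660e83d000200f02c0c4000903c35c35000230f0d50f400089614a9600060b5851d580018203a369250ec008943a0b02f004240e8d70cc0108c3a3543b004220e0c60dc0102836304370040c541445440106d50519510020a5414954400818322e03500021520320d4000803407825000240d0b70d4000894339d420060b50d2d50801820322e9260cc008943207821004240c8b70cc0108938481390041b4e11c4e400825384a93900206))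
  (.leaf (nat_lit 0x7fc007fc007fc007fc007fc007fc007fc007fc007fc007fe5c9225d0041b972509740082a5c9325d002099724e97400818646c0670002193c6419c00080661403c3743d1446700e26199b919c00090666d45f00023199b318c0008a4b8fa4a0060c92e3d9280081e4b8ea4a00607190500f0dd0ec4d18c00898646da0519400894646e46500424191b51740108c646cc61004228e2288e40106e388b2390020a8e22f8e400826388c63900206))))
def tTm_N_0 : Tr := .node (.node (.node (.node (.leaf (nat_lit 1057))
  (.leaf (nat_lit 297)))
  (.node (.leaf (nat_lit 540143))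
  (.leaf (nat_lit 500))))
  (.node (.node (.leaf (nat_lit 204968))
  (.leaf (nat_lit 14350)))
  (.leaf (nat_lit 132))))
  (.node (.node (.node (.leaf (nat_lit 598088))
  (.leaf (nat_lit 396)))
  (.leaf (nat_lit 513)))
  (.node (.node (.leaf (nat_lit 543786))
  (.leaf (nat_lit 81)))
  (.leaf (nat_lit 6150))))
def tTm_N_1 : Tr := .node (.node (.node (.node (.leaf (nat_lit 606305))
  (.leaf (nat_lit 19466)))
  (.node (.leaf (nat_lit 664040))
  (.leaf (nat_lit 0))))
  (.node (.node (.leaf (nat_lit 203975))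
  (.leaf (nat_lit 48)))
  (.leaf (nat_lit 165))))
  (.node (.node (.node (.leaf (nat_lit 597095))
  (.leaf (nat_lit 429)))
  (.leaf (nat_lit 17410)))
  (.node (.node (.leaf (nat_lit 183466))
  (.leaf (nat_lit 3090)))
  (.leaf (nat_lit 264))))
def tTm_N_2 : Tr := .node (.node (.node (.node (.leaf (nat_lit 3171))
  (.leaf (nat_lit 618)))
  (.node (.leaf (nat_lit 660965))
  (.leaf (nat_lit 15380))))
  (.node (.node (.leaf (nat_lit 266500))
  (.leaf (nat_lit 655)))
  (.leaf (nat_lit 4100))))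
  (.node (.node (.node (.leaf (nat_lit 594020))
  (.leaf (nat_lit 12300)))
  (.leaf (nat_lit 546)))
  (.node (.node (.leaf (nat_lit 609386))
  (.leaf (nat_lit 114)))
  (.leaf (nat_lit 231))))
def tTm_N_3 : Tr := .node (.node (.node (.node (.leaf (nat_lit 36900))
  (.leaf (nat_lit 363)))
  (.leaf (nat_lit 262249102575)))
  (.node (.node (.leaf (nat_lit 201925))
  (.leaf (nat_lit 1040)))
  (.leaf (nat_lit 198))))
  (.node (.node (.node (.leaf (nat_lit 530470))
  (.leaf (nat_lit 462)))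
  (.leaf (nat_lit 579)))
  (.node (.node (.leaf (nat_lit 249066))
  (.leaf (nat_lit 339)))
  (.leaf (nat_lit 8200))))
def tTm_N_4 : Tr := .node (.node (.node (.node (.leaf (nat_lit 2114))
  (.leaf (nat_lit 9225)))
  (.node (.leaf (nat_lit 496100))
  (.leaf (nat_lit 500))))
  (.node (.node (.leaf (nat_lit 168100))
  (.leaf (nat_lit 655)))
  (.leaf (nat_lit 132))))
  (.node (.node (.node (.leaf (nat_lit 561220))
  (.leaf (nat_lit 396)))
  (.leaf (nat_lit 16385)))
  (.node (.node (.leaf (nat_lit 576586))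
  (.leaf (nat_lit 2065)))
  (.leaf (nat_lit 231))))
def tTm_N_5 : Tr := .node (.node (.node (.node (.leaf (nat_lit 607330))
  (.leaf (nat_lit 363)))
  (.leaf (nat_lit 20468047)))
  (.node (.node (.leaf (nat_lit 200900))
  (.leaf (nat_lit 48)))
  (.leaf (nat_lit 5125))))
  (.node (.node (.node (.leaf (nat_lit 529445))
  (.leaf (nat_lit 13325)))
  (.leaf (nat_lit 579)))
  (.node (.node (.leaf (nat_lit 216266))
  (.leaf (nat_lit 339)))
  (.leaf (nat_lit 264))))
def tTm_N_6 : Tr := .node (.node (.node (.node (.leaf (nat_lit 573505))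
  (.leaf (nat_lit 618)))
  (.node (.leaf (nat_lit 661990))
  (.leaf (nat_lit 0))))
  (.node (.node (.leaf (nat_lit 276045063))
  (.leaf (nat_lit 20495)))
  (.leaf (nat_lit 165))))
  (.node (.node (.node (.leaf (nat_lit 532520))
  (.leaf (nat_lit 429)))
  (.leaf (nat_lit 546)))
  (.node (.node (.leaf (nat_lit 150666))
  (.leaf (nat_lit 114)))
  (.leaf (nat_lit 7175))))
def tTm_N_7 : Tr := .node (.node (.node (.node (.leaf (nat_lit 564263))
  (.leaf (nat_lit 11275)))
  (.leaf (nat_lit 513)))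
  (.node (.node (.leaf (nat_lit 10570))
  (.leaf (nat_lit 81)))
  (.leaf (nat_lit 198))))
  (.node (.node (.node (.leaf (nat_lit 171143))
  (.leaf (nat_lit 462)))
  (.leaf (nat_lit 18435)))
  (.node (.node (.leaf (nat_lit 281866))
  (.leaf (nat_lit 10259)))
  (.leaf (nat_lit 297))))
def tTm_N : Tr := .node (.node (.node tTm_N_0
  tTm_N_1)
  (.node tTm_N_2
  tTm_N_3))
  (.node (.node tTm_N_4
  tTm_N_5)
  (.node tTm_N_6
  tTm_N_7))
noncomputable def tTm : TC :=
  ⟨[.l 0, .l 1, .l 2, .l 3, .l 4, .l 5, .l 6, .l 7, .l 8, .l 9, .l 10, .l 11, .l 12, .l 13, .l 14, .l 15, .l 16, .l 17, .l 18, .l 19, .l 20],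
    (nat_lit 6), (nat_lit 10), (nat_lit 0xf50c41a39ac5cd28398a494600), (nat_lit 1535), (nat_lit 52), (nat_lit 9), (nat_lit 32), (nat_lit 8), (nat_lit 101),
    get (nat_lit 10) (nat_lit 0x400c0400c02010030080400c02010030080400c02010030080400c02010030080400c02010030080400c02010030080400c02010030080400c02010030080400c02010030080400c0201003008080140401004010040100401004010040100400c040100401804010040100401004010040100401004010040100300c03), Tr.get tTm_N, get (nat_lit 20) (nat_lit 0x3ff003ff003ff003ff003ff003ff003ff003ff003ff003ff003ff003ff003ff003ff003ff003ff003ff003ff003ff003ff003ff003ff003ff003ff003ff003ff003ff003ff003ff003ff003ff003ff003ff003ff003ff003ff003ff003ff003ff003ff003ff003ff003ff003ff003ff003ff003ff003ff003ff003ff003ff003ff003ff003ff003ff003ff003ff003ff003ff003ff003ff003ff0002b0002a000290002800027000260002500024000230002200021000200001f0001e0001d0001c0001b0001a0001900018000170001600015000140000e0000d0000c0000b0000a00009000080000700006000050000400003000020000100000),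
    Tr.get3 tTm_F (nat_lit 22) (nat_lit 5), Tr.get3 tTm_T (nat_lit 6) (nat_lit 7), Tr.get tTm_P⟩

theorem tTm_head : tTm.headOK rTm tTm_iv = true := by decide +kernel

theorem tTm_b0 : allFrom (nat_lit 0) (nat_lit 8) tTm.blockOK = true := by decide +kernel

def tTm_Q15 : Tr := .leaf (nat_lit 0x67968638d85f86059734641805c1503d5b835538314d83a094e50c82e0800522002)
theorem tTm_f15_0 : allFrom (nat_lit 0) (nat_lit 27) (tTm.finOK (nat_lit 27) (Tr.get3 tTm_Q15 (nat_lit 10) (nat_lit 6)) (nat_lit 15)) = true := by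
  decide +kernel

def tTm_Q8 : Tr := .leaf (nat_lit 0x25691a3489a3589dc06f1b8691a56196c5814c5096d5842d5354307c2c078861f876)
theorem tTm_f8_0 : allFrom (nat_lit 0) (nat_lit 27) (tTm.finOK (nat_lit 27) (Tr.get3 tTm_Q8 (nat_lit 10) (nat_lit 6)) (nat_lit 8)) = true := by
  decide +kernel

def tTm_Q7 : Tr := .leaf (nat_lit 0x25892a4b8aa16729cb6f85113449114501304811134388dc38cc02f01302c1202874)
theorem tTm_f7_0 : allFrom (nat_lit 0) (nat_lit 27) (tTm.finOK (nat_lit 27) (Tr.get3 tTm_Q7 (nat_lit 10) (nat_lit 6)) (nat_lit 7)) = true := by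
  decide +kernel

def tTm_Q6 : Tr := .leaf (nat_lit 0x254912328925591633895b4681b56856a5796b57d32380d6310be35ca6260841f072)
theorem tTm_f6_0 : allFrom (nat_lit 0) (nat_lit 27) (tTm.finOK (nat_lit 27) (Tr.get3 tTm_Q6 (nat_lit 10) (nat_lit 6)) (nat_lit 6)) = true := by
  decide +kernel

def tTm_Q5 : Tr := .leaf (nat_lit 0x25290a5390e1472215725b26cd9264d685714a50130378d44c4df2d8a4294821e870)
theorem tTm_f5_0 : allFrom (nat_lit 0) (nat_lit 27) (tTm.finOK (nat_lit 27) (Tr.get3 tTm_Q5 (nat_lit 10) (nat_lit 6)) (nat_lit 5)) = true := by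
  decide +kernel

def tTm_Q4 : Tr := .leaf (nat_lit 0x25d972398e21b869c3709b067990609715c151541394e0d831cc62e0a22588b2286e)
theorem tTm_f4_0 : allFrom (nat_lit 0) (nat_lit 27) (tTm.finOK (nat_lit 27) (Tr.get3 tTm_Q4 (nat_lit 10) (nat_lit 6)) (nat_lit 4)) = true := by
  decide +kernel

def tTm_Q10 : Tr := .leaf (nat_lit 0x265922418a223809fd801b768d9561577589575113f480db46d1e2eca926c8d20078)
theorem tTm_f10_0 : allFrom (nat_lit 0) (nat_lit 27) (tTm.finOK (nat_lit 27) (Tr.get3 tTm_Q10 (nat_lit 10) (nat_lit 6)) (nat_lit 10)) = true := by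
  decide +kernel

def tTm_Q3 : Tr := .leaf (nat_lit 0x2629463e8b62084e1083dae6718e601745955451df97dcd37d5ef2d5174551243c6c)
theorem tTm_f3_0 : allFrom (nat_lit 0) (nat_lit 27) (tTm.finOK (nat_lit 27) (Tr.get3 tTm_Q3 (nat_lit 10) (nat_lit 6)) (nat_lit 3)) = true := by
  decide +kernel

def tTm_Q2 : Tr := .leaf (nat_lit 0x2609363c8ba1e7fe0c82dad66d8d5fdf37b5e978d3c475224b92d4a4a12550b3fc6a)
theorem tTm_f2_0 : allFrom (nat_lit 0) (nat_lit 27) (tTm.finOK (nat_lit 27) (Tr.get3 tTm_Q2 (nat_lit 10) (nat_lit 6)) (nat_lit 2)) = true := by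
  decide +kernel

def tTm_Q1 : Tr := .leaf (nat_lit 0x25e93a3a8c61c821fb73e0481ddd7657259d525253a4a924464e749cfb3cc8f24468)
theorem tTm_f1_0 : allFrom (nat_lit 0) (nat_lit 27) (tTm.finOK (nat_lit 27) (Tr.get3 tTm_Q1 (nat_lit 10) (nat_lit 6)) (nat_lit 1)) = true := by
  decide +kernel

theorem tTm_blocks : ∀ t < tTm.k, tTm.blockOK t = true :=
  (of_allFrom_append of_lt_zero tTm_b0)

/-- index 27 max 65 total 113 facts 816 | needed cosets 52 facts 307 steps 783 trivial 43 -/
theorem tTm_index {G : Type*} [Group G] {γ : ℕ → G} (hL : Lab γ tTm_iv) (hr : ∀ t ∈ rTm, t.ev γ = 1) {K : Subgroup G}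
    (hK : ∀ t ∈ ([.l 1, .l 2, .l 3, .l 4, .l 5, .l 6, .l 7, .l 8, .l 10] : List W), t.ev γ ∈ K) :
    K.relIndex (genW γ [.l 1, .l 2, .l 3, .l 10, .l 4, .l 5, .l 6, .l 7, .l 8, .l 15]) ≠ 0 ∧ K.relIndex (genW γ [.l 1, .l 2, .l 3, .l 10, .l 4, .l 5, .l 6, .l 7, .l 8, .l 15]) ≤ 27 :=
  TC.relIndex_le (D := tTm) (gens := [1, 2, 3, 10, 4, 5, 6, 7, 8, 15]) hL (List.forall_mem_cons.2 ⟨hL.zero_mem K, hK⟩) hr tTm_head tTm_blocks (by decide) (by decide)
   (List.forall_mem_cons.2 ⟨⟨_, (of_allFrom_append of_lt_zero tTm_f1_0)⟩,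
    List.forall_mem_cons.2 ⟨⟨_, (of_allFrom_append of_lt_zero tTm_f2_0)⟩,
    List.forall_mem_cons.2 ⟨⟨_, (of_allFrom_append of_lt_zero tTm_f3_0)⟩,
    List.forall_mem_cons.2 ⟨⟨_, (of_allFrom_append of_lt_zero tTm_f10_0)⟩,
    List.forall_mem_cons.2 ⟨⟨_, (of_allFrom_append of_lt_zero tTm_f4_0)⟩,
    List.forall_mem_cons.2 ⟨⟨_, (of_allFrom_append of_lt_zero tTm_f5_0)⟩,
    List.forall_mem_cons.2 ⟨⟨_, (of_allFrom_append of_lt_zero tTm_f6_0)⟩,
    List.forall_mem_cons.2 ⟨⟨_, (of_allFrom_append of_lt_zero tTm_f7_0)⟩,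
    List.forall_mem_cons.2 ⟨⟨_, (of_allFrom_append of_lt_zero tTm_f8_0)⟩,
    List.forall_mem_cons.2 ⟨⟨_, (of_allFrom_append of_lt_zero tTm_f15_0)⟩,
    fun _ h => absurd h List.not_mem_nil⟩⟩⟩⟩⟩⟩⟩⟩⟩⟩)

theorem tTm_idx {G : Type*} [Group G] {γ : ℕ → G} (h0 : γ 0 = 1) (hr : ∀ t ∈ rTm, t.ev γ = 1) {K : Subgroup G}
    (hK : ∀ t ∈ ([.l 1, .l 2, .l 3, .l 4, .l 5, .l 6, .l 7, .l 8, .l 10] : List W), t.ev γ ∈ K) :
    K.relIndex (genW γ [.l 1, .l 2, .l 3, .l 10, .l 4, .l 5, .l 6, .l 7, .l 8, .l 15]) ≠ 0 ∧ K.relIndex (genW γ [.l 1, .l 2, .l 3, .l 10, .l 4, .l 5, .l 6, .l 7, .l 8, .l 15]) ≤ 27 := by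
  have a := lab_of_rels h0 hr (iv := tTm_iv) (labs := tTm_labs) (by decide +kernel)
  have b := tTm_index a.1 a.2 (mems_fix (by decide +kernel) hK)
  rwa [genW_fix (by decide +kernel)] at b

theorem tBW_tb : TB rBW (tm.ws 2) 3888 := fun _ _ δ h0 hr =>
  card_le_of_relIndex (N := 1296) (ov_le h0) (tBW_idx h0 hr fun _ => mem_genW _)
    (tK2_tb _ δ h0 fun t m => hr t (List.mem_append_left _ m))

theorem tTm_tb : TB rTm (tm.ws 0) 104976 := fun _ _ δ h0 hr =>
  card_le_of_relIndex (N := 3888) (ov_le h0) (tTm_idx h0 hr (K := genW δ (tm.ws 2)) (genW_le.1 (ov_le h0)))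
    (tBW_tb _ δ h0 fun t m => hr t (List.mem_append_left _ m))

/-- a formula -/
def tm_om_f : Fm := .all 4 40 [] (.imp (.one (.pow (.l 40) 3)) (.mem 1 (.l 40)))

theorem tm_om_ev : tm.eval tm_om_f = true := by decide +kernel

theorem tm_om {G : Type*} [Group G] {γ : ℕ → G} {k : ℕ} {N : List W} (g : Gf tm γ k N)
    (e : tyB tm k N tm_om_f = true := by decide +kernel) :
    ∀ y ∈ genW γ (tm.ws 4), y ^ 3 = 1 → y ∈ genW γ (tm.ws 1) :=
  g.transfer e tm_om_ev

end Cfsg.Lib.S83
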